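import Groth.Prelude.Def_W4c1liftfrobW2
import Mathlib.RingTheory.WittVector.DiscreteValuationRing
import Mathlib.RingTheory.WittVector.Identities
import Mathlib.RingTheory.WittVector.Teichmuller
import Mathlib.RingTheory.Flat.Tensor
import Mathlib.LinearAlgebra.TensorProduct.RightExactness

/-! # Witt vectors of length two and flat liftings -/

namespace Groth.Agent.FrobW2

open FrobAlg TensorProduct

variable (p : ℕ) [hp : Fact p.Prime] {R : Type*} [CommRing R]

theorem coeff_zero_truncate (X : WittVector p R) :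
    (WittVector.truncate 2 X : W2 p R).coeff 0 = X.coeff 0 := by
  rw [WittVector.coeff_truncate]; rfl

theorem ext2 {x y : W2 p R} (h0 : x.coeff 0 = y.coeff 0) (h1 : x.coeff 1 = y.coeff 1) : x = y :=
  TruncatedWittVector.ext (Fin.forall_fin_two.2 ⟨h0, h1⟩)

theorem p_mul_coeff [CharP R p] (x : W2 p R) :
    ((p : W2 p R) * x).coeff 0 = 0 ∧ ((p : W2 p R) * x).coeff 1 = x.coeff 0 ^ p := by
  obtain ⟨X, rfl⟩ := WittVector.truncate_surjective p 2 R x
  have e : (p : W2 p R) * WittVector.truncate 2 X =
      WittVector.truncate 2 (WittVector.verschiebung (WittVector.frobenius X)) := by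
    rw [WittVector.verschiebung_frobenius, map_mul, map_natCast, mul_comm]
  rw [e]
  constructor
  · rw [coeff_zero_truncate, WittVector.verschiebung_coeff_zero]
  · rw [WittVector.coeff_truncate, coeff_zero_truncate,
      show ((1 : Fin 2) : ℕ) = Nat.succ 0 from rfl, WittVector.verschiebung_coeff_succ,
      WittVector.coeff_frobenius_charP]

theorem p_mul_p [CharP R p] : (p : W2 p R) * p = 0 := by
  have h0 : (p : W2 p R).coeff 0 = 0 := by simpa using (p_mul_coeff p (1 : W2 p R)).1
  refine ext2 p ?_ ?_
  · rw [TruncatedWittVector.coeff_zero]; exact (p_mul_coeff p _).1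
  · rw [TruncatedWittVector.coeff_zero, (p_mul_coeff p _).2, h0, zero_pow hp.out.ne_zero]

theorem ker_res_perfect [CharP R p] [PerfectRing R p] :
    RingHom.ker (res p R) = Ideal.span {(p : W2 p R)} := by
  ext x
  rw [RingHom.mem_ker, res_apply, Ideal.mem_span_singleton]
  constructor
  · intro hx
    obtain ⟨c, hc⟩ := (frobeniusEquiv R p).surjective (x.coeff 1)
    refine ⟨WittVector.truncate 2 (WittVector.teichmuller p c), ext2 p ?_ ?_⟩
    · rw [(p_mul_coeff p _).1, hx]
    · rw [(p_mul_coeff p _).2, coeff_zero_truncate, WittVector.teichmuller_coeff_zero, ← hc]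
      rfl
  · rintro ⟨y, rfl⟩
    exact (p_mul_coeff p y).1

theorem res_eq_zero_of_p_mul [CharP R p] [IsReduced R] {x : W2 p R} (h : (p : W2 p R) * x = 0) :
    res p R x = 0 := by
  have := (p_mul_coeff p x).2
  rw [h, TruncatedWittVector.coeff_zero] at this
  rw [res_apply]
  exact IsReduced.eq_zero _ ⟨p, this.symm⟩

section Field

variable {k : Type*} [Field k] [CharP k p] [PerfectRing k p]

theorem isUnit_of_res_ne_zero {x : W2 p k} (h : res p k x ≠ 0) : IsUnit x := by
  obtain ⟨X, rfl⟩ := WittVector.truncate_surjective p 2 k x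
  rw [res_truncate] at h
  exact (WittVector.isUnit_of_coeff_zero_ne_zero X h).map _

theorem mem_span_p_or_isUnit (x : W2 p k) : x ∈ Ideal.span {(p : W2 p k)} ∨ IsUnit x := by
  by_cases h : res p k x = 0
  · exact .inl (ker_res_perfect p (R := k) ▸ RingHom.mem_ker.2 h)
  · exact .inr (isUnit_of_res_ne_zero p h)

theorem flat_iff (M : Type*) [AddCommGroup M] [Module (W2 p k) M] :
    Module.Flat (W2 p k) M ↔
      ∀ m : M, (p : W2 p k) • m = 0 → ∃ m' : M, m = (p : W2 p k) • m' := by
  constructor
  · intro h m hm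
    let f : W2 p k →ₗ[W2 p k] W2 p k := LinearMap.lsmul _ _ (p : W2 p k)
    have hex : Function.Exact f f := by
      intro x
      constructor
      · intro hx
        obtain ⟨y, hy⟩ := Ideal.mem_span_singleton'.1
          (ker_res_perfect p (R := k) ▸ RingHom.mem_ker.2 (res_eq_zero_of_p_mul p hx))
        exact ⟨y, by simp [f, ← hy, mul_comm]⟩
      · rintro ⟨y, rfl⟩
        simp [f, ← mul_assoc, p_mul_p]
    obtain ⟨z, hz⟩ := ((Module.Flat.lTensor_exact M hex) (m ⊗ₜ (1 : W2 p k))).1 (by
      rw [LinearMap.lTensor_tmul]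
      change m ⊗ₜ[W2 p k] ((p : W2 p k) • (1 : W2 p k)) = 0
      rw [← TensorProduct.smul_tmul, hm, TensorProduct.zero_tmul])
    obtain ⟨y, rfl⟩ := (TensorProduct.rid _ _).symm.surjective z
    refine ⟨y, ?_⟩
    have := congrArg (TensorProduct.rid (W2 p k) M) hz
    rw [TensorProduct.rid_symm_apply, LinearMap.lTensor_tmul, TensorProduct.rid_tmul,
      TensorProduct.rid_tmul, one_smul] at this
    simpa [f] using this.symm
  · intro h
    rw [Module.Flat.iff_rTensor_injective']
    intro I
    by_cases hu : ∃ x ∈ I, IsUnit x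
    · obtain ⟨x, hx, hxu⟩ := hu
      obtain rfl := Ideal.eq_top_of_isUnit_mem I hx hxu
      exact (Submodule.topEquiv.rTensor M).injective
    push Not at hu
    by_cases h0 : I = ⊥
    · subst h0
      haveI : Subsingleton ((⊥ : Ideal (W2 p k)) ⊗[W2 p k] M) := by
        refine ⟨fun a b => ?_⟩
        have hz : ∀ t : (⊥ : Ideal (W2 p k)) ⊗[W2 p k] M, t = 0 := by
          intro t
          induction t with
          | zero => rfl
          | tmul i z => rw [Subsingleton.elim i 0, TensorProduct.zero_tmul]
          | add x y hx hy => rw [hx, hy, add_zero]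
        rw [hz a, hz b]
      exact Function.injective_of_subsingleton _
    have hI : I = Ideal.span {(p : W2 p k)} := by
      refine le_antisymm (fun x hx => (mem_span_p_or_isUnit p x).resolve_right (hu x hx)) ?_
      obtain ⟨x, hx, hx0⟩ := Submodule.exists_mem_ne_zero_of_ne_bot h0
      obtain ⟨y, rfl⟩ := Ideal.mem_span_singleton'.1
        ((mem_span_p_or_isUnit p x).resolve_right (hu x hx))
      rcases mem_span_p_or_isUnit p y with hy | hy
      · obtain ⟨z, rfl⟩ := Ideal.mem_span_singleton'.1 hy
        rw [mul_assoc, p_mul_p, mul_zero] at hx0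
        exact absurd rfl hx0
      · obtain ⟨v, rfl⟩ := hy
        rw [Ideal.span_singleton_le_iff_mem]
        simpa using I.mul_mem_left ↑v⁻¹ hx
    subst hI
    have hpm : (p : W2 p k) ∈ Ideal.span {(p : W2 p k)} := Ideal.mem_span_singleton_self _
    rw [injective_iff_map_eq_zero]
    intro t ht
    obtain ⟨m, rfl⟩ : ∃ m, t = (⟨(p : W2 p k), hpm⟩ : Ideal.span {(p : W2 p k)}) ⊗ₜ[W2 p k] m := by
      clear ht
      induction t with
      | zero => exact ⟨0, (TensorProduct.tmul_zero _ _).symm⟩
      | tmul i z =>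
        obtain ⟨c, hc⟩ := Ideal.mem_span_singleton'.1 i.2
        refine ⟨c • z, ?_⟩
        rw [← TensorProduct.smul_tmul]
        congr 1
        exact Subtype.ext (by simp [hc])
      | add x y hx hy =>
        obtain ⟨a, rfl⟩ := hx; obtain ⟨b, rfl⟩ := hy
        exact ⟨a + b, (TensorProduct.tmul_add _ _ _).symm⟩
    have hm : (p : W2 p k) • m = 0 := by
      have := congrArg (TensorProduct.lid (W2 p k) M) ht
      simpa using this
    obtain ⟨m', rfl⟩ := h m hm
    rw [← TensorProduct.smul_tmul]
    exact Eq.trans (congrArg (fun i : Ideal.span {(p : W2 p k)} => i ⊗ₜ[W2 p k] m')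
      (Subtype.ext (p_mul_p p) : _ = (0 : Ideal.span {(p : W2 p k)}))) (TensorProduct.zero_tmul _ _)

variable {A B : Type*} [CommRing A] [Algebra k A] [CommRing B] (ι : W2 p k →+* B) (π : B →+* A)

theorem flat_ringHom_iff :
    ι.Flat ↔ ∀ b : B, (p : B) * b = 0 → ∃ b' : B, b = (p : B) * b' := by
  algebraize [ι]
  have hs : ∀ b : B, (p : W2 p k) • b = (p : B) * b := fun b => by
    rw [Algebra.smul_def, map_natCast]
  change Module.Flat (W2 p k) B ↔ _
  refine (flat_iff p B).trans (forall_congr' fun b => ?_)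
  exact ⟨fun h hb => (h ((hs b).trans hb)).imp fun b' hb' => hb'.trans (hs b'),
    fun h hb => (h ((hs b).symm.trans hb)).imp fun b' hb' => hb'.trans (hs b').symm⟩

end Field

section Lift

variable {k : Type*} [Field k] [CharP k p] [PerfectRing k p]
  {A B : Type*} [CommRing A] [Algebra k A] [CommRing B] {ι : W2 p k →+* B} {π : B →+* A}

theorem span_p_eq_map (ι : W2 p k →+* B) :
    Ideal.map ι (RingHom.ker (res p k)) = Ideal.span {(p : B)} := by
  rw [ker_res_perfect, Ideal.map_span, Set.image_singleton, map_natCast]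

omit [PerfectRing k p] hp in
theorem cast_eq_zero_of_algebra (k : Type*) {A : Type*} [Field k] [CharP k p] [CommRing A] [Algebra k A] :
    (p : A) = 0 := by
  rw [← map_natCast (algebraMap k A), CharP.cast_eq_zero, map_zero]

theorem cast_sq_eq_zero (ι : W2 p k →+* B) : (p : B) * p = 0 := by
  rw [← map_natCast ι, ← map_mul, p_mul_p, map_zero]

end Lift

end Groth.Agent.FrobW2
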