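import Groth.Agent.FrobW2.SmoothFLift
import Mathlib.RingTheory.Regular.RegularSequence

/-! # The criterion for liftings of Frobenius on a presentation -/

namespace Groth.Agent.FrobW2

open FrobAlg MvPolynomial

universe u v

variable {p : ℕ} [hp : Fact p.Prime] {k : Type u} [Field k] [CharP k p] [PerfectRing k p] {n : ℕ}

/-- The lift of Frobenius with corrections `h`. -/
noncomputable def evF (h : Fin n → MvPolynomial (Fin n) (W2 p k)) : MvPolynomial (Fin n) (W2 p k) →+* MvPolynomial (Fin n) (W2 p k) :=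
  MvPolynomial.eval₂Hom (MvPolynomial.C.comp (sigma p k)) fun i => MvPolynomial.X i ^ p + (p : MvPolynomial (Fin n) (W2 p k)) * h i

theorem map_res_p : MvPolynomial.map (σ := Fin n) (res p k) (p : MvPolynomial (Fin n) (W2 p k)) = 0 := by
  rw [map_natCast, CharP.cast_eq_zero]

theorem exists_p_mul {z : MvPolynomial (Fin n) (W2 p k)} (hz : MvPolynomial.map (res p k) z = 0) :
    ∃ c, z = (p : MvPolynomial (Fin n) (W2 p k)) * c := by
  have h1 : z ∈ RingHom.ker (MvPolynomial.map (σ := Fin n) (res p k)) := hz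
  rw [MvPolynomial.ker_map, ker_res_perfect p, Ideal.map_span, Set.image_singleton, map_natCast,
    Ideal.mem_span_singleton] at h1
  exact h1

theorem res_of_p_mul {z : MvPolynomial (Fin n) (W2 p k)} (hz : (p : MvPolynomial (Fin n) (W2 p k)) * z = 0) :
    MvPolynomial.map (res p k) z = 0 := by
  refine MvPolynomial.ext _ _ fun d => ?_
  rw [MvPolynomial.coeff_map, MvPolynomial.coeff_zero]
  refine res_eq_zero_of_p_mul p ?_
  have h1 := congrArg (MvPolynomial.coeff d) hz
  rwa [← map_natCast (MvPolynomial.C (R := W2 p k) (σ := Fin n)), MvPolynomial.coeff_C_mul, MvPolynomial.coeff_zero] at h1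

theorem p_mul_congr {a b : MvPolynomial (Fin n) (W2 p k)} (h : MvPolynomial.map (res p k) a = MvPolynomial.map (res p k) b) :
    (p : MvPolynomial (Fin n) (W2 p k)) * a = (p : MvPolynomial (Fin n) (W2 p k)) * b := by
  obtain ⟨c, hc⟩ := exists_p_mul (z := a - b) (by rw [map_sub, h, sub_self])
  rw [← sub_eq_zero, ← mul_sub, hc, ← mul_assoc, cast_sq_eq_zero p (MvPolynomial.C (R := W2 p k) (σ := Fin n)), zero_mul]

theorem map_res_evF (h : Fin n → MvPolynomial (Fin n) (W2 p k)) (F : MvPolynomial (Fin n) (W2 p k)) :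
    MvPolynomial.map (res p k) (evF h F) = (MvPolynomial.map (res p k) F) ^ p := by
  refine DFunLike.congr_fun (f := (MvPolynomial.map (res p k)).comp (evF h))
    (g := (frobenius _ p).comp (MvPolynomial.map (res p k))) (MvPolynomial.ringHom_ext (fun a => ?_) fun i => ?_) F
  · simp only [RingHom.comp_apply, evF, eval₂Hom_C, map_C, frobenius_def, ← map_pow, res_apply]
    congr 1
  · simp only [RingHom.comp_apply, evF, eval₂Hom_X', map_X, frobenius_def, map_add, map_pow, map_mul, map_res_p, zero_mul, add_zero]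

theorem evF_C (h : Fin n → MvPolynomial (Fin n) (W2 p k)) (a : W2 p k) :
    evF h (MvPolynomial.C a) = MvPolynomial.C (sigma p k a) :=
  MvPolynomial.eval₂Hom_C _ _ a

theorem evF_X (h : Fin n → MvPolynomial (Fin n) (W2 p k)) (i : Fin n) :
    evF h (MvPolynomial.X i) = MvPolynomial.X i ^ p + (p : MvPolynomial (Fin n) (W2 p k)) * h i :=
  MvPolynomial.eval₂Hom_X' _ _ i

theorem polyFrob_C (a : W2 p k) : polyFrob p k (Fin n) (MvPolynomial.C a) = MvPolynomial.C (sigma p k a) :=
  MvPolynomial.eval₂Hom_C _ _ a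

theorem polyFrob_X (i : Fin n) : polyFrob p k (Fin n) (MvPolynomial.X i) = MvPolynomial.X i ^ p :=
  MvPolynomial.eval₂Hom_X' _ _ i

theorem evF_zero : evF (fun _ => (0 : MvPolynomial (Fin n) (W2 p k))) = polyFrob p k (Fin n) :=
  MvPolynomial.ringHom_ext (fun a => by rw [evF_C, polyFrob_C]) fun i => by rw [evF_X, polyFrob_X, mul_zero, add_zero]

theorem map_res_polyFrob (F : MvPolynomial (Fin n) (W2 p k)) :
    MvPolynomial.map (res p k) (polyFrob p k (Fin n) F) = (MvPolynomial.map (res p k) F) ^ p := by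
  rw [← map_res_evF (fun _ => (0 : MvPolynomial (Fin n) (W2 p k))) F]
  congr 1
  exact (DFunLike.congr_fun (evF_zero (p := p) (k := k) (n := n)) F).symm

theorem evF_eq (h : Fin n → MvPolynomial (Fin n) (W2 p k)) (F : MvPolynomial (Fin n) (W2 p k)) :
    evF h F = polyFrob p k (Fin n) F + (p : MvPolynomial (Fin n) (W2 p k)) * ∑ j, MvPolynomial.pderiv j F ^ p * h j := by
  have h2 : ∀ i j, (p : MvPolynomial (Fin n) (W2 p k)) * h i * ((p : MvPolynomial (Fin n) (W2 p k)) * h j) = 0 := fun i j => by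
    rw [mul_mul_mul_comm, cast_sq_eq_zero p (MvPolynomial.C (R := W2 p k) (σ := Fin n)), zero_mul]
  have h3 : ∀ i, evF h (MvPolynomial.X i) = polyFrob p k (Fin n) (MvPolynomial.X i) + (p : MvPolynomial (Fin n) (W2 p k)) * h i :=
    fun i => by rw [evF_X, polyFrob_X]
  have h4 : ∀ a, evF h (MvPolynomial.C a) = polyFrob p k (Fin n) (MvPolynomial.C a) := fun a => by rw [evF_C, polyFrob_C]
  have h5 : ∀ j, polyFrob p k (Fin n) (MvPolynomial.pderiv j F) * ((p : MvPolynomial (Fin n) (W2 p k)) * h j) =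
      (p : MvPolynomial (Fin n) (W2 p k)) * (MvPolynomial.pderiv j F ^ p * h j) := fun j => by
    rw [mul_left_comm]
    exact p_mul_congr (by rw [map_mul, map_mul, map_res_polyFrob, map_pow])
  have h1 := eval_add_sq_zero (polyFrob p k (Fin n)) (evF h) h4 (fun i => (p : MvPolynomial (Fin n) (W2 p k)) * h i) h3 h2 F
  rw [h1, Finset.mul_sum, Finset.sum_congr rfl fun j _ => h5 j]

variable {m : ℕ}

theorem span_map (f' : Fin m → MvPolynomial (Fin n) (W2 p k)) :
    (Ideal.span (Set.range f')).map (MvPolynomial.map (res p k)) = Ideal.span (Set.range fun i => MvPolynomial.map (res p k) (f' i)) := by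
  rw [Ideal.map_span, ← Set.range_comp]; rfl

/-- Liftings of Frobenius on a flat presentation. -/
theorem exists_frob_iff (f' : Fin m → MvPolynomial (Fin n) (W2 p k)) {B : Type v} [CommRing B]
    (β : MvPolynomial (Fin n) (W2 p k) →+* B) (hβ : Function.Surjective β) (hker : RingHom.ker β = Ideal.span (Set.range f'))
    (hflat : (β.comp MvPolynomial.C).Flat) :
    (∃ Φ : B →+* B, Φ.comp (β.comp MvPolynomial.C) = (β.comp MvPolynomial.C).comp (sigma p k) ∧
        ∀ b, ∃ c, Φ b - b ^ p = (p : B) * c) ↔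
      ∃ h : Fin n → MvPolynomial (Fin n) (W2 p k), ∀ i,
        polyFrob p k (Fin n) (f' i) - f' i ^ p
          - (p : MvPolynomial (Fin n) (W2 p k)) * ∑ j, MvPolynomial.pderiv j (f' i) ^ p * h j
          ∈ Ideal.span {(p : MvPolynomial (Fin n) (W2 p k))} * Ideal.span (Set.range f') := by
  constructor
  · rintro ⟨Φ, hsemi, hred⟩
    choose c hc using fun i => hred (β (MvPolynomial.X i))
    choose t ht using fun i => hβ (c i)
    have hev : ∀ F, β (evF t F) = Φ (β F) := fun F =>
      DFunLike.congr_fun (f := β.comp (evF t)) (g := Φ.comp β) (MvPolynomial.ringHom_ext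
        (fun a => by
          simp only [RingHom.comp_apply, evF, eval₂Hom_C]
          exact (RingHom.congr_fun hsemi a).symm)
        (fun i => by
          simp only [RingHom.comp_apply, evF, eval₂Hom_X', map_add, map_pow, map_mul, map_natCast, ht, ← hc]
          ring)) F
    refine ⟨fun i => -t i, fun i => ?_⟩
    have hi : f' i ∈ Ideal.span (Set.range f') := Ideal.subset_span ⟨i, rfl⟩
    have hX : polyFrob p k (Fin n) (f' i) - f' i ^ p
        - (p : MvPolynomial (Fin n) (W2 p k)) * ∑ j, MvPolynomial.pderiv j (f' i) ^ p * -t j = evF t (f' i) - f' i ^ p := by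
      rw [evF_eq]; simp only [mul_neg, Finset.sum_neg_distrib]; ring
    rw [hX]
    obtain ⟨d, hd⟩ := exists_p_mul (z := evF t (f' i) - f' i ^ p) (by rw [map_sub, map_res_evF, map_pow, sub_self])
    have h1 : β (evF t (f' i) - f' i ^ p) = 0 := by
      rw [map_sub, hev, map_pow, RingHom.mem_ker.1 (hker ▸ hi : f' i ∈ RingHom.ker β), map_zero, zero_pow hp.out.ne_zero, sub_zero]
    rw [hd, map_mul, map_natCast] at h1
    obtain ⟨e, he⟩ := (flat_ringHom_iff p _).1 hflat (β d) h1
    obtain ⟨e', rfl⟩ := hβ e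
    rw [hd, show (p : MvPolynomial (Fin n) (W2 p k)) * d = (p : MvPolynomial (Fin n) (W2 p k)) * (d - (p : MvPolynomial (Fin n) (W2 p k)) * e') by
      rw [mul_sub, ← mul_assoc, cast_sq_eq_zero p (MvPolynomial.C (R := W2 p k) (σ := Fin n)), zero_mul, sub_zero]]
    refine Ideal.mul_mem_mul (Ideal.mem_span_singleton_self _) ?_
    rw [← hker, RingHom.mem_ker, map_sub, map_mul, map_natCast, he, sub_self]
  · rintro ⟨h, hh⟩
    have hJ : ∀ i, β (evF (fun j => -h j) (f' i)) = 0 := by
      intro i
      have h1 := Ideal.mul_le_right (hh i)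
      rw [← hker, RingHom.mem_ker, map_sub, map_sub, map_pow,
        RingHom.mem_ker.1 (hker ▸ Ideal.subset_span ⟨i, rfl⟩ : f' i ∈ RingHom.ker β), zero_pow hp.out.ne_zero, sub_zero] at h1
      rw [evF_eq, map_add]
      simp only [mul_neg, Finset.sum_neg_distrib, map_neg, ← sub_eq_add_neg]
      exact h1
    have hle : ∀ F ∈ RingHom.ker β, β (evF (fun j => -h j) F) = 0 := by
      intro F hF
      have : RingHom.ker β ≤ RingHom.ker (β.comp (evF fun j => -h j)) := by
        rw [hker, Ideal.span_le]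
        rintro _ ⟨i, rfl⟩
        exact hJ i
      exact this hF
    let Φ : B →+* B := RingHom.liftOfSurjective β hβ ⟨β.comp (evF fun j => -h j), hle⟩
    have hΦ : ∀ F, Φ (β F) = β (evF (fun j => -h j) F) := fun F => RingHom.liftOfRightInverse_comp_apply _ _ _ _ F
    refine ⟨Φ, RingHom.ext fun a => ?_, fun b => ?_⟩
    · simp only [RingHom.comp_apply, hΦ, evF, eval₂Hom_C]
    · obtain ⟨F, rfl⟩ := hβ b
      obtain ⟨d, hd⟩ := exists_p_mul (z := evF (fun j => -h j) F - F ^ p) (by rw [map_sub, map_res_evF, map_pow, sub_self])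
      exact ⟨β d, by rw [hΦ, ← map_pow, ← map_sub, hd, map_mul, map_natCast]⟩

theorem map_mem_span_range {S T : Type*} [CommRing S] [CommRing T] (φ : S →+* T) (hφ : Function.Surjective φ)
    {I : Ideal S} {y : T} (hy : y ∈ I.map φ) : ∃ x ∈ I, φ x = y :=
  (Ideal.mem_map_iff_of_surjective φ hφ).1 hy

/-- Lifts of a regular sequence give a flat quotient. -/
theorem res_mem_of_p_mul_mem (f' : Fin m → MvPolynomial (Fin n) (W2 p k))
    (hreg : ∀ (j : Fin m) (a : MvPolynomial (Fin n) k),
      MvPolynomial.map (res p k) (f' j) * a ∈ Ideal.span ((fun l => MvPolynomial.map (res p k) (f' l)) '' {l | (l : ℕ) < j}) →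
      a ∈ Ideal.span ((fun l => MvPolynomial.map (res p k) (f' l)) '' {l | (l : ℕ) < j})) :
    ∀ j, j ≤ m → ∀ x, (p : MvPolynomial (Fin n) (W2 p k)) * x ∈ Ideal.span (f' '' {l | (l : ℕ) < j}) →
      MvPolynomial.map (res p k) x ∈ Ideal.span ((fun l => MvPolynomial.map (res p k) (f' l)) '' {l | (l : ℕ) < j}) := by
  intro j
  induction j with
  | zero =>
    intro _ x hx
    simp only [Nat.not_lt_zero, Set.setOf_false, Set.image_empty, Ideal.span_empty, Ideal.mem_bot] at hx ⊢
    exact res_of_p_mul hx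
  | succ j ih =>
    intro hj x hx
    have hset : {l : Fin m | (l : ℕ) < j + 1} = insert ⟨j, hj⟩ {l : Fin m | (l : ℕ) < j} := by
      ext l
      simp only [Set.mem_setOf_eq, Set.mem_insert_iff, Fin.ext_iff]
      omega
    rw [hset, Set.image_insert_eq, Ideal.mem_span_insert] at hx
    obtain ⟨a, w, hw, hx⟩ := hx
    have hmap : (Ideal.span (f' '' {l : Fin m | (l : ℕ) < j})).map (MvPolynomial.map (res p k)) =
        Ideal.span ((fun l => MvPolynomial.map (res p k) (f' l)) '' {l : Fin m | (l : ℕ) < j}) := by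
      rw [Ideal.map_span, Set.image_image]
    have h1 : MvPolynomial.map (res p k) (f' ⟨j, hj⟩) * MvPolynomial.map (res p k) a ∈
        Ideal.span ((fun l => MvPolynomial.map (res p k) (f' l)) '' {l : Fin m | (l : ℕ) < j}) := by
      have h2 := congrArg (MvPolynomial.map (res p k)) hx
      rw [map_mul, map_res_p, zero_mul, map_add, map_mul] at h2
      rw [mul_comm, eq_neg_of_add_eq_zero_left h2.symm]
      exact neg_mem (hmap ▸ Ideal.mem_map_of_mem _ hw)
    obtain ⟨b, hb, hba⟩ := map_mem_span_range (MvPolynomial.map (res p k)) (MvPolynomial.map_surjective _ res_surjective)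
      (hmap.symm ▸ hreg ⟨j, hj⟩ _ h1 : MvPolynomial.map (res p k) a ∈ (Ideal.span (f' '' {l : Fin m | (l : ℕ) < j})).map (MvPolynomial.map (res p k)))
    obtain ⟨d, hd⟩ := exists_p_mul (z := a - b) (by rw [map_sub, hba, sub_self])
    have h3 : (p : MvPolynomial (Fin n) (W2 p k)) * (x - d * f' ⟨j, hj⟩) ∈ Ideal.span (f' '' {l : Fin m | (l : ℕ) < j}) := by
      rw [mul_sub, hx, ← mul_assoc, ← hd, show a * f' ⟨j, hj⟩ + w - (a - b) * f' ⟨j, hj⟩ = b * f' ⟨j, hj⟩ + w by ring]
      exact add_mem (Ideal.mul_mem_right _ _ hb) hw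
    have h4 := ih (by omega) _ h3
    rw [map_sub, map_mul] at h4
    rw [hset, Set.image_insert_eq, Ideal.mem_span_insert]
    exact ⟨MvPolynomial.map (res p k) d, _, h4, (add_sub_cancel _ _).symm⟩

theorem isFLiftable_iff_of_isRegular (f : Fin m → MvPolynomial (Fin n) k)
    (hreg : RingTheory.Sequence.IsRegular (MvPolynomial (Fin n) k) (List.ofFn f)) :
    IsFLiftable p k (MvPolynomial (Fin n) k ⧸ Ideal.span (Set.range f)) ↔
    ∃ (f' : Fin m → MvPolynomial (Fin n) (W2 p k)) (h : Fin n → MvPolynomial (Fin n) (W2 p k)),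
      (∀ i, MvPolynomial.map (res p k) (f' i) = f i) ∧
      ∀ i, polyFrob p k (Fin n) (f' i) - f' i ^ p
        - (p : MvPolynomial (Fin n) (W2 p k)) * ∑ j, MvPolynomial.pderiv j (f' i) ^ p * h j
        ∈ Ideal.span {(p : MvPolynomial (Fin n) (W2 p k))} * Ideal.span (Set.range f') := by
  constructor
  · rintro ⟨B, _, ι, π, Φ, hΦ⟩
    have hl := hΦ.toIsLift
    choose b hb using fun i => hl.surj (Ideal.Quotient.mk _ (MvPolynomial.X i))
    let β : MvPolynomial (Fin n) (W2 p k) →+* B := MvPolynomial.eval₂Hom ι b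
    have hπβ : ∀ F, π (β F) = Ideal.Quotient.mk _ (MvPolynomial.map (res p k) F) := by
      intro F
      refine DFunLike.congr_fun (f := π.comp β) (g := (Ideal.Quotient.mk (Ideal.span (Set.range f))).comp (MvPolynomial.map (res p k))) (MvPolynomial.ringHom_ext (fun a => ?_) fun i => ?_) F
      · have h1 := RingHom.congr_fun hl.comm a
        simp only [RingHom.comp_apply] at h1
        simp only [RingHom.comp_apply, β, eval₂Hom_C, map_C, h1]
        rfl
      · simp only [RingHom.comp_apply, β, eval₂Hom_X', map_X, hb]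
    have hβ : Function.Surjective β := by
      have h1 : ∀ c, ∃ t c', c = β t + (p : B) * c' := fun c => by
        obtain ⟨a, ha⟩ := Ideal.Quotient.mk_surjective (π c)
        obtain ⟨t, rfl⟩ := MvPolynomial.map_surjective (σ := Fin n) (res p k) res_surjective a
        obtain ⟨c', hc'⟩ := IsLift.exists_eq_p_mul hl (b := c - β t) (by rw [map_sub, hπβ, ha, sub_self])
        exact ⟨t, c', by rw [← hc', add_sub_cancel]⟩
      intro c
      obtain ⟨t, c', rfl⟩ := h1 c
      obtain ⟨t', c'', rfl⟩ := h1 c'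
      refine ⟨t + (p : MvPolynomial (Fin n) (W2 p k)) * t', ?_⟩
      rw [map_add, map_mul, map_natCast, mul_add (p : B), ← mul_assoc (p : B) (p : B), cast_sq_eq_zero p ι, zero_mul, add_zero]
    have hlift : ∀ i, ∃ F ∈ RingHom.ker β, MvPolynomial.map (res p k) F = f i := by
      intro i
      obtain ⟨F, hF⟩ := MvPolynomial.map_surjective (σ := Fin n) (res p k) res_surjective (f i)
      obtain ⟨c, hc⟩ := IsLift.exists_eq_p_mul hl (b := β F) (by rw [hπβ, hF, Ideal.Quotient.eq_zero_iff_mem]; exact Ideal.subset_span ⟨i, rfl⟩)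
      obtain ⟨t, rfl⟩ := hβ c
      exact ⟨F - (p : MvPolynomial (Fin n) (W2 p k)) * t, by rw [RingHom.mem_ker, map_sub, hc, map_mul, map_natCast, sub_self],
        by rw [map_sub, map_mul, map_res_p, zero_mul, sub_zero, hF]⟩
    choose f' hf'β hf' using hlift
    have hmap : (Ideal.span (Set.range f')).map (MvPolynomial.map (res p k)) = Ideal.span (Set.range f) := by
      rw [span_map, funext hf']
    have hrep : ∀ x, π (β x) = 0 → ∃ z ∈ Ideal.span (Set.range f'), ∃ y, x = z + (p : MvPolynomial (Fin n) (W2 p k)) * y := by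
      intro x hx
      rw [hπβ, Ideal.Quotient.eq_zero_iff_mem, ← hmap] at hx
      obtain ⟨z, hz, hzx⟩ := map_mem_span_range _ (MvPolynomial.map_surjective _ res_surjective) hx
      obtain ⟨y, hy⟩ := exists_p_mul (z := x - z) (by rw [map_sub, hzx, sub_self])
      exact ⟨z, hz, y, by rw [← hy, add_sub_cancel]⟩
    have hle : Ideal.span (Set.range f') ≤ RingHom.ker β := Ideal.span_le.2 (by rintro _ ⟨i, rfl⟩; exact hf'β i)
    have hker : RingHom.ker β = Ideal.span (Set.range f') := by
      refine le_antisymm (fun x hx => ?_) hle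
      obtain ⟨z, hz, y, rfl⟩ := hrep x (by rw [RingHom.mem_ker.1 hx, map_zero])
      have h1 : (p : B) * β y = 0 := by
        have := RingHom.mem_ker.1 hx
        rwa [map_add, RingHom.mem_ker.1 (hle hz), zero_add, map_mul, map_natCast] at this
      obtain ⟨c, hc⟩ := (flat_ringHom_iff p ι).1 hl.flat (β y) h1
      obtain ⟨w, hw, y', rfl⟩ := hrep y (by rw [hc, IsLift.map_p_mul hl])
      refine add_mem hz ?_
      rw [mul_add, ← mul_assoc, cast_sq_eq_zero p (MvPolynomial.C (R := W2 p k) (σ := Fin n)), zero_mul, add_zero]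
      exact Ideal.mul_mem_left _ _ hw
    have hCι : β.comp MvPolynomial.C = ι := RingHom.ext fun a => eval₂Hom_C _ _ a
    obtain ⟨h, hh⟩ := (exists_frob_iff f' β hβ hker (hCι ▸ hl.flat)).1 ⟨Φ, by rw [hCι]; exact hΦ.semi, fun b =>
      IsLift.exists_eq_p_mul hl (by rw [map_sub, hΦ.red, map_pow, sub_self])⟩
    exact ⟨f', h, hf', hh⟩
  · rintro ⟨f', h, hf', hh⟩
    have hmap : (Ideal.span (Set.range f')).map (MvPolynomial.map (res p k)) = Ideal.span (Set.range f) := by
      rw [span_map, funext hf']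
    have hreg' : ∀ (j : Fin m) (a : MvPolynomial (Fin n) k),
        MvPolynomial.map (res p k) (f' j) * a ∈ Ideal.span ((fun l => MvPolynomial.map (res p k) (f' l)) '' {l | (l : ℕ) < j}) →
        a ∈ Ideal.span ((fun l => MvPolynomial.map (res p k) (f' l)) '' {l | (l : ℕ) < j}) := by
      intro j a ha
      simp only [hf'] at ha ⊢
      have hj : (j : ℕ) < (List.ofFn f).length := by rw [List.length_ofFn]; exact j.2
      have hI : Ideal.ofList ((List.ofFn f).take j) • (⊤ : Ideal (MvPolynomial (Fin n) k)) =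
          Ideal.span (f '' {l : Fin m | (l : ℕ) < j}) := by
        rw [Ideal.smul_eq_mul, Ideal.mul_top]
        refine congrArg Ideal.span (Set.ext fun x => ?_)
        simp only [Set.mem_setOf_eq, List.mem_take_iff_getElem, List.getElem_ofFn, List.length_ofFn, Set.mem_image]
        constructor
        · rintro ⟨l, hl, rfl⟩
          exact ⟨⟨l, by omega⟩, by simp only; omega, rfl⟩
        · rintro ⟨l, hl, rfl⟩
          exact ⟨l, by omega, rfl⟩
      have h1 := hreg.regular_mod_prev j hj
      rw [← hI] at ha ⊢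
      rw [← Submodule.Quotient.mk_eq_zero] at ha ⊢
      refine h1 ?_
      change (List.ofFn f)[(j : ℕ)] • Submodule.Quotient.mk a = (List.ofFn f)[(j : ℕ)] • (0 : _)
      rw [smul_zero, ← Submodule.Quotient.mk_smul, List.getElem_ofFn, smul_eq_mul]
      exact ha
    let J := Ideal.span (Set.range f')
    have hall : ∀ {α : Type u} (g : Fin m → α), g '' {l : Fin m | (l : ℕ) < m} = Set.range g := fun g => by
      rw [show {l : Fin m | (l : ℕ) < m} = Set.univ from Set.eq_univ_of_forall fun l => l.2, Set.image_univ]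
    have hann : ∀ x, (p : MvPolynomial (Fin n) (W2 p k)) * x ∈ J → MvPolynomial.map (res p k) x ∈ Ideal.span (Set.range f) := by
      intro x hx
      have := res_mem_of_p_mul_mem f' hreg' m le_rfl x (by rwa [hall])
      rwa [hall, funext hf'] at this
    let π : MvPolynomial (Fin n) (W2 p k) ⧸ J →+* MvPolynomial (Fin n) k ⧸ Ideal.span (Set.range f) :=
      Ideal.quotientMap _ (MvPolynomial.map (res p k)) (hmap ▸ Ideal.le_comap_map)
    have hl : IsLift p k (MvPolynomial (Fin n) k ⧸ Ideal.span (Set.range f)) (MvPolynomial (Fin n) (W2 p k) ⧸ J)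
        ((Ideal.Quotient.mk J).comp MvPolynomial.C) π := by
      refine isLift_mk (fun a => ?_) (fun b hb => ?_) (fun b hb => ?_) (RingHom.ext fun a => ?_)
      · obtain ⟨a, rfl⟩ := Ideal.Quotient.mk_surjective a
        obtain ⟨t, rfl⟩ := MvPolynomial.map_surjective (σ := Fin n) (res p k) res_surjective a
        exact ⟨Ideal.Quotient.mk J t, rfl⟩
      · obtain ⟨x, rfl⟩ := Ideal.Quotient.mk_surjective b
        change Ideal.Quotient.mk _ (MvPolynomial.map (res p k) x) = 0 at hb
        rw [Ideal.Quotient.eq_zero_iff_mem, ← hmap] at hb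
        obtain ⟨z, hz, hzx⟩ := map_mem_span_range _ (MvPolynomial.map_surjective _ res_surjective) hb
        obtain ⟨y, hy⟩ := exists_p_mul (z := x - z) (by rw [map_sub, hzx, sub_self])
        refine ⟨Ideal.Quotient.mk J y, ?_⟩
        rw [← map_natCast (Ideal.Quotient.mk J), ← map_mul, ← hy, Ideal.Quotient.eq, sub_sub_cancel]
        exact hz
      · obtain ⟨x, rfl⟩ := Ideal.Quotient.mk_surjective b
        rw [← map_natCast (Ideal.Quotient.mk J), ← map_mul, Ideal.Quotient.eq_zero_iff_mem] at hb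
        exact Ideal.Quotient.eq_zero_iff_mem.2 (hann x hb)
      · change Ideal.Quotient.mk _ (MvPolynomial.map (res p k) (MvPolynomial.C a)) = _
        rw [map_C]
        rfl
    obtain ⟨Φ, hsemi, hred⟩ := (exists_frob_iff f' (Ideal.Quotient.mk J) Ideal.Quotient.mk_surjective Ideal.mk_ker hl.flat).2 ⟨h, hh⟩
    refine ⟨_, inferInstance, _, π, Φ, hl, hsemi, fun b => ?_⟩
    obtain ⟨c, hc⟩ := hred b
    rw [← map_pow, ← sub_eq_zero, ← map_sub, hc, IsLift.map_p_mul hl]

end Groth.Agent.FrobW2
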