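import Groth.Agent.FrobW2.Lift
import Mathlib.RingTheory.WittVector.Basic
import Mathlib.RingTheory.WittVector.InitTail

/-! # The ghost map `W₂(A) → B` of a lifting, and lifts of Frobenius -/

namespace Groth.Agent.FrobW2

open FrobAlg

universe u v

variable {p : ℕ} [hp : Fact p.Prime]

section General

variable (p) {B : Type v} [CommRing B]

theorem ghostComponent_one (X : WittVector p B) :
    WittVector.ghostComponent 1 X = (p : B) * X.coeff 1 + X.coeff 0 ^ p := by
  rw [WittVector.ghostComponent_apply, wittPolynomial_one]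
  simp

/-- The first ghost component of a Witt vector of length two. -/
noncomputable def ghost1 : W2 p B →+* B :=
  RingHom.liftOfSurjective (WittVector.truncate 2) (WittVector.truncate_surjective p 2 B)
    ⟨WittVector.ghostComponent 1, fun X hX => by
      rw [RingHom.mem_ker] at hX ⊢
      have h := (WittVector.mem_ker_truncate 2 X).1 (RingHom.mem_ker.2 hX)
      rw [ghostComponent_one, h 1 (by omega), h 0 (by omega), zero_pow hp.out.ne_zero, mul_zero,
        add_zero]⟩

theorem ghost1_apply (x : W2 p B) : ghost1 p x = (p : B) * x.coeff 1 + x.coeff 0 ^ p := by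
  obtain ⟨X, rfl⟩ := WittVector.truncate_surjective p 2 B x
  rw [coeff_zero_truncate, WittVector.coeff_truncate, show ((1 : Fin 2) : ℕ) = 1 from rfl,
    ← ghostComponent_one]
  exact RingHom.liftOfRightInverse_comp_apply _ _ _ _ X

theorem pow_p_eq {x y c : B} (hsq : (p : B) * p = 0) (h : x - y = (p : B) * c) : x ^ p = y ^ p := by
  rw [show x = y + (p : B) * c by rw [← h]; ring, add_pow, Finset.sum_eq_single p]
  · simp
  · intro i hi hne
    rcases Nat.lt_or_ge i p with hlt | hge
    · rcases Nat.lt_or_ge (i + 1) p with h2 | h2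
      · obtain ⟨j, hj⟩ : ∃ j, p - i = j + 2 := ⟨p - i - 2, by omega⟩
        rw [hj, mul_pow, show (p : B) ^ (j + 2) = (p : B) ^ j * ((p : B) * p) by ring, hsq]
        ring
      · have e : i + 1 = p := by omega
        rw [show p - i = 1 by omega, pow_one, show p.choose i = p by
          conv_lhs => rw [← Nat.choose_symm hlt.le, show p - i = 1 by omega, Nat.choose_one_right]]
        linear_combination y ^ i * c * hsq
    · exact absurd (le_antisymm (Nat.lt_succ_iff.1 (Finset.mem_range.1 hi)) hge) hne
  · simp

theorem truncMap_surjective {A : Type*} [CommRing A] (π : B →+* A) (hπ : Function.Surjective π) :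
    Function.Surjective (WittGrp.truncMap p 2 π) := fun x =>
  ⟨TruncatedWittVector.mk p fun i => Function.surjInv hπ (x.coeff i),
    TruncatedWittVector.ext fun i => by
      rw [WittGrp.coeff_truncMap, TruncatedWittVector.coeff_mk, Function.surjInv_eq hπ]⟩

end General

variable {k : Type u} [Field k] [CharP k p] [PerfectRing k p]
  {A B : Type v} [CommRing A] [Algebra k A] [CommRing B] {ι : W2 p k →+* B} {π : B →+* A}

/-- The ghost map `W₂(A) → B` of a lifting: `(a₀, a₁) ↦ ã₀ ^ p + p ã₁`. -/
noncomputable def wMap (h : IsLift p k A B ι π) : W2 p A →+* B :=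
  RingHom.liftOfSurjective (WittGrp.truncMap p 2 π) (truncMap_surjective p π h.surj)
    ⟨ghost1 p, fun y hy => by
      rw [RingHom.mem_ker] at hy ⊢
      have hi : ∀ i, π (y.coeff i) = 0 := fun i => by
        rw [← WittGrp.coeff_truncMap, hy, TruncatedWittVector.coeff_zero]
      obtain ⟨c, hc⟩ := IsLift.exists_eq_p_mul h (hi 0)
      obtain ⟨d, hd⟩ := IsLift.exists_eq_p_mul h (hi 1)
      have hsq := cast_sq_eq_zero p ι
      rw [ghost1_apply, hd, ← mul_assoc, hsq, zero_mul, zero_add,
        pow_p_eq p hsq (x := y.coeff 0) (y := 0) (c := c) (by rw [sub_zero, hc]),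
        zero_pow hp.out.ne_zero]⟩

theorem wMap_truncMap (h : IsLift p k A B ι π) (y : W2 p B) :
    wMap h (WittGrp.truncMap p 2 π y) = ghost1 p y :=
  RingHom.liftOfRightInverse_comp_apply _ _ _ _ y

theorem π_wMap (h : IsLift p k A B ι π) (x : W2 p A) : π (wMap h x) = x.coeff 0 ^ p := by
  obtain ⟨y, rfl⟩ := truncMap_surjective p π h.surj x
  rw [wMap_truncMap, ghost1_apply, map_add, IsLift.map_p_mul h, zero_add, map_pow,
    WittGrp.coeff_truncMap]

theorem eq_of_wMap (h : IsLift p k A B ι π) {x x' : W2 p A} (h0 : x.coeff 0 = x'.coeff 0)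
    (hw : wMap h x = wMap h x') : x = x' := by
  obtain ⟨y, rfl⟩ := truncMap_surjective p π h.surj x
  obtain ⟨y', rfl⟩ := truncMap_surjective p π h.surj x'
  rw [WittGrp.coeff_truncMap, WittGrp.coeff_truncMap] at h0
  refine ext2 p (by rwa [WittGrp.coeff_truncMap, WittGrp.coeff_truncMap]) ?_
  rw [WittGrp.coeff_truncMap, WittGrp.coeff_truncMap]
  refine IsLift.eq_of_p_mul h ?_
  obtain ⟨c, hc⟩ := IsLift.exists_eq_p_mul h (b := y.coeff 0 - y'.coeff 0) (by rw [map_sub, h0, sub_self])
  rw [wMap_truncMap, wMap_truncMap, ghost1_apply, ghost1_apply, pow_p_eq p (cast_sq_eq_zero p ι) hc] at hw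
  exact add_right_cancel hw

theorem sigma_eq (x : W2 p k) :
    sigma p k x = (p : W2 p k) * WittVector.truncate 2 (WittVector.teichmuller p (x.coeff 1)) +
      WittVector.truncate 2 (WittVector.teichmuller p (x.coeff 0)) ^ p := by
  have e : (p : W2 p k) * WittVector.truncate 2 (WittVector.teichmuller p (x.coeff 1)) =
      WittVector.truncate 2 (WittVector.verschiebung (WittVector.frobenius (WittVector.teichmuller p (x.coeff 1)))) := by
    rw [WittVector.verschiebung_frobenius, map_mul, map_natCast, mul_comm]
  rw [e, ← map_pow, ← map_pow, ← map_add]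
  have hd : ∀ n, (WittVector.verschiebung (WittVector.frobenius (WittVector.teichmuller p (x.coeff 1)))).coeff n = 0 ∨
      (WittVector.teichmuller p (x.coeff 0 ^ p)).coeff n = 0 := by
    intro n
    cases n with
    | zero => exact .inl (WittVector.verschiebung_coeff_zero _)
    | succ n => exact .inr (WittVector.teichmuller_coeff_pos p _ _ n.succ_pos)
  refine ext2 p ?_ ?_
  · rw [WittGrp.coeff_frob, coeff_zero_truncate, WittVector.coeff_add_of_disjoint _ _ _ hd,
      WittVector.verschiebung_coeff_zero, WittVector.teichmuller_coeff_zero, zero_add]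
  · rw [WittGrp.coeff_frob, WittVector.coeff_truncate, show ((1 : Fin 2) : ℕ) = Nat.succ 0 from rfl,
      WittVector.coeff_add_of_disjoint _ _ _ hd, WittVector.verschiebung_coeff_succ,
      WittVector.coeff_frobenius_charP, WittVector.teichmuller_coeff_zero,
      WittVector.teichmuller_coeff_pos p _ _ (Nat.succ_pos 0), add_zero]

theorem wMap_algebraMap (h : IsLift p k A B ι π) (x : W2 p k) :
    wMap h (WittGrp.truncMap p 2 (algebraMap k A) x) = ι (sigma p k x) := by
  let τ : k → W2 p k := fun a => WittVector.truncate 2 (WittVector.teichmuller p a)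
  have hτ : ∀ a, res p k (τ a) = a := fun a => by
    rw [res_truncate, WittVector.teichmuller_coeff_zero]
  have e : WittGrp.truncMap p 2 (algebraMap k A) x =
      WittGrp.truncMap p 2 π (TruncatedWittVector.mk p fun i => ι (τ (x.coeff i))) := by
    refine TruncatedWittVector.ext fun i => ?_
    rw [WittGrp.coeff_truncMap, WittGrp.coeff_truncMap, TruncatedWittVector.coeff_mk,
      show π (ι (τ (x.coeff i))) = algebraMap k A (res p k (τ (x.coeff i))) from RingHom.congr_fun h.comm _,
      hτ]
  rw [e, wMap_truncMap, ghost1_apply, TruncatedWittVector.coeff_mk, TruncatedWittVector.coeff_mk,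
    sigma_eq, map_add, map_mul, map_natCast, map_pow]

theorem exists_frobLift_iff (h : IsLift p k A B ι π) :
    (∃ Φ : B →+* B, IsFrobLift p k A B ι π Φ) ↔
      ∃ θ : B →+* W2 p A, (res p A).comp θ = π ∧
        θ.comp ι = WittGrp.truncMap p 2 (algebraMap k A) := by
  constructor
  · rintro ⟨Φ, hΦ⟩
    have hex : ∀ b, ∃ y : W2 p A, y.coeff 0 = π b ∧ wMap h y = Φ b := by
      intro b
      obtain ⟨d, hd⟩ := IsLift.exists_eq_p_mul h (b := Φ b - b ^ p) (by
        rw [map_sub, map_pow, hΦ.red, sub_self])
      refine ⟨WittGrp.truncMap p 2 π (TruncatedWittVector.mk p ![b, d]), ?_, ?_⟩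
      · simp
      · rw [wMap_truncMap, ghost1_apply]
        simp only [TruncatedWittVector.coeff_mk, Matrix.cons_val_zero, Matrix.cons_val_one,
          Matrix.cons_val_fin_one]
        rw [← hd, sub_add_cancel]
    choose θ h0 hw using hex
    have res0 : ∀ y : W2 p A, y.coeff 0 = res p A y := fun y => (res_apply p A y).symm
    refine ⟨
      { toFun := θ
        map_one' := ?_
        map_mul' := (fun a b => ?_)
        map_zero' := ?_
        map_add' := (fun a b => ?_) }, RingHom.ext fun b => ?_, RingHom.ext fun x => ?_⟩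
    · exact eq_of_wMap h (by rw [h0, map_one, res0, map_one]) (by rw [hw, map_one, map_one])
    · exact eq_of_wMap h (by rw [h0, map_mul, res0, map_mul, ← res0, ← res0, h0, h0])
        (by rw [hw, map_mul, map_mul, hw, hw])
    · exact eq_of_wMap h (by rw [h0, map_zero, res0, map_zero]) (by rw [hw, map_zero, map_zero])
    · exact eq_of_wMap h (by rw [h0, map_add, res0, map_add, ← res0, ← res0, h0, h0])
        (by rw [hw, map_add, map_add, hw, hw])
    · change res p A (θ b) = π b
      rw [res_apply, h0]
    · change θ (ι x) = _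
      refine eq_of_wMap h ?_ ?_
      · rw [h0, WittGrp.coeff_truncMap, ← res_apply p k x]
        exact RingHom.congr_fun h.comm x
      · rw [hw, wMap_algebraMap]
        exact RingHom.congr_fun hΦ.semi x
  · rintro ⟨θ, h1, h2⟩
    refine ⟨(wMap h).comp θ, h, RingHom.ext fun x => ?_, fun b => ?_⟩
    · rw [RingHom.comp_apply, RingHom.comp_apply, RingHom.comp_apply, ← RingHom.comp_apply θ, h2,
        wMap_algebraMap]
    · rw [RingHom.comp_apply, π_wMap, ← res_apply, ← RingHom.comp_apply (res p A), h1]

end Groth.Agent.FrobW2
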