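import Groth.Prelude.Def_WittGrp
import Mathlib.RingTheory.WittVector.Identities
import Mathlib.RingTheory.WittVector.Frobenius

/-! # The shift `W_m → W_{m+1}` in characteristic `p` -/

namespace Groth.Agent.FrobW2

variable {p : ℕ} [hp : Fact p.Prime] {m : ℕ} {R : Type*} [CommRing R]

theorem shift_mul (hpR : (p : R) = 0) (y : TruncatedWittVector p (m + 1) R)
    (x : TruncatedWittVector p m R) :
    y * WittGrp.shift p (Nat.le_succ m) x =
      WittGrp.shift p (Nat.le_succ m)
        (WittGrp.frob p m hpR (TruncatedWittVector.truncate (Nat.le_succ m) y) * x) := by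
  rcases subsingleton_or_nontrivial R with hR | hR
  · exact TruncatedWittVector.ext fun i => Subsingleton.elim _ _
  have : CharP R p := (CharP.charP_iff_prime_eq_zero hp.out).mpr hpR
  obtain ⟨Y, rfl⟩ := WittVector.truncate_surjective p (m + 1) R y
  obtain ⟨X, rfl⟩ := WittVector.truncate_surjective p m R x
  rw [TruncatedWittVector.truncate_wittVector_truncate, WittGrp.frob_truncate, ← map_mul,
    WittGrp.shift_truncate, WittGrp.shift_truncate, ← map_mul, show m.succ - m = 1 by omega,
    Function.iterate_one, mul_comm (WittVector.frobenius Y), WittVector.verschiebung_mul_frobenius,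
    mul_comm]

theorem natCast_p_eq_shift_one (hpR : (p : R) = 0) :
    (p : TruncatedWittVector p (m + 1) R) = WittGrp.shift p (Nat.le_succ m) 1 := by
  rcases subsingleton_or_nontrivial R with hR | hR
  · exact TruncatedWittVector.ext fun i => Subsingleton.elim _ _
  have : CharP R p := (CharP.charP_iff_prime_eq_zero hp.out).mpr hpR
  rw [← map_one (WittVector.truncate (p := p) (R := R) m), WittGrp.shift_truncate,
    show m.succ - m = 1 by omega, Function.iterate_one,
    ← map_one (WittVector.frobenius : WittVector p R →+* WittVector p R),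
    WittVector.verschiebung_frobenius, one_mul, map_natCast]

theorem p_mul_eq_shift (hpR : (p : R) = 0) (y : TruncatedWittVector p (m + 1) R) :
    (p : TruncatedWittVector p (m + 1) R) * y =
      WittGrp.shift p (Nat.le_succ m)
        (WittGrp.frob p m hpR (TruncatedWittVector.truncate (Nat.le_succ m) y)) := by
  rw [mul_comm, natCast_p_eq_shift_one hpR, shift_mul hpR, mul_one]

theorem shift_coeff_zero (x : TruncatedWittVector p m R) :
    (WittGrp.shift p (Nat.le_succ m) x).coeff 0 = 0 := by
  rw [WittGrp.coeff_shift, dif_neg]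
  simp

theorem shift_coeff_succ (x : TruncatedWittVector p m R) (i : Fin m) :
    (WittGrp.shift p (Nat.le_succ m) x).coeff i.succ = x.coeff i := by
  rw [WittGrp.coeff_shift, dif_pos (by simp)]
  congr 1
  ext; simp

theorem shift_injective :
    Function.Injective (WittGrp.shift p (R := R) (Nat.le_succ m)) := fun a b e =>
  TruncatedWittVector.ext fun i => by rw [← shift_coeff_succ a i, e, shift_coeff_succ]

theorem exists_shift {w : TruncatedWittVector p (m + 1) R} (hw : w.coeff 0 = 0) :
    ∃ x, WittGrp.shift p (Nat.le_succ m) x = w := by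
  refine ⟨TruncatedWittVector.mk p fun i => w.coeff i.succ, TruncatedWittVector.ext fun i => ?_⟩
  refine Fin.cases ?_ (fun j => ?_) i
  · rw [shift_coeff_zero, hw]
  · rw [shift_coeff_succ, TruncatedWittVector.coeff_mk]

theorem coeff_zero_mul (x y : TruncatedWittVector p (m + 1) R) :
    (x * y).coeff 0 = x.coeff 0 * y.coeff 0 := by
  obtain ⟨X, rfl⟩ := WittVector.truncate_surjective p (m + 1) R x
  obtain ⟨Y, rfl⟩ := WittVector.truncate_surjective p (m + 1) R y
  rw [← map_mul, WittVector.coeff_truncate, WittVector.coeff_truncate, WittVector.coeff_truncate]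
  exact WittVector.mul_coeff_zero X Y

theorem coeff_zero_add (x y : TruncatedWittVector p (m + 1) R) :
    (x + y).coeff 0 = x.coeff 0 + y.coeff 0 := by
  obtain ⟨X, rfl⟩ := WittVector.truncate_surjective p (m + 1) R x
  obtain ⟨Y, rfl⟩ := WittVector.truncate_surjective p (m + 1) R y
  rw [← map_add, WittVector.coeff_truncate, WittVector.coeff_truncate, WittVector.coeff_truncate]
  exact WittVector.add_coeff_zero X Y

theorem coeff_truncateLE_zero (hm : 0 < m) (y : TruncatedWittVector p (m + 1) R) :
    (TruncatedWittVector.truncate (Nat.le_succ m) y).coeff ⟨0, hm⟩ = y.coeff 0 := by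
  rw [TruncatedWittVector.coeff_truncate]; rfl

/-- The ideal generated by shifts of an additive subgroup stable under `frob(·) *`. -/
theorem mem_span_shift_iff (hpR : (p : R) = 0) (S : AddSubgroup (TruncatedWittVector p m R))
    (hS : ∀ y x, x ∈ S → WittGrp.frob p m hpR y * x ∈ S) (w : TruncatedWittVector p (m + 1) R) :
    w ∈ Ideal.span (WittGrp.shift p (Nat.le_succ m) '' S) ↔
      ∃ x ∈ S, WittGrp.shift p (Nat.le_succ m) x = w := by
  refine ⟨fun hw => ?_, fun ⟨x, hx, e⟩ => e ▸ Ideal.subset_span ⟨x, hx, rfl⟩⟩
  induction hw using Submodule.span_induction with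
  | mem y hy => exact hy
  | zero => exact ⟨0, S.zero_mem, map_zero _⟩
  | add a b _ _ ha hb =>
    obtain ⟨x, hx, rfl⟩ := ha; obtain ⟨y, hy, rfl⟩ := hb
    exact ⟨x + y, S.add_mem hx hy, map_add _ _ _⟩
  | smul c a _ ha =>
    obtain ⟨x, hx, rfl⟩ := ha
    exact ⟨_, hS _ _ hx, (shift_mul hpR c x).symm⟩

end Groth.Agent.FrobW2
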