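import Groth.Agent.FrobW2.Lift
import Groth.Agent.FrobW2.Ghost
import Groth.Agent.FrobW2.Shift
import Groth.Agent.Hensel.LiftEtaleAlg
import Mathlib.RingTheory.Smooth.Flat
import Mathlib.RingTheory.RingHom.Flat
import Mathlib.RingTheory.Smooth.Basic

/-! # Frobenius liftings extend along étale maps -/

namespace Groth.Agent.FrobW2

open FrobAlg TensorProduct

universe u v

variable {p : ℕ} [hp : Fact p.Prime]

theorem res_mul_res {R : Type v} [CommRing R] (hpR : (p : R) = 0) {x y : W2 p R} (hx : res p R x = 0) (hy : res p R y = 0) :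
    x * y = 0 := by
  rw [res_apply] at hx hy
  obtain ⟨y', rfl⟩ := exists_shift (m := 1) (w := y) hy
  rw [shift_mul hpR]
  have : (TruncatedWittVector.truncate (Nat.le_succ 1) x : TruncatedWittVector p 1 R) = 0 := by
    refine TruncatedWittVector.ext fun i => ?_
    rw [TruncatedWittVector.coeff_truncate, TruncatedWittVector.coeff_zero, show Fin.castLE (Nat.le_succ 1) i = 0 from Fin.ext (by have := i.2; simp only [Fin.val_castLE, Fin.val_zero]; omega)]
    exact hx
  rw [this, map_zero, zero_mul, map_zero]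

theorem res_isNilpotent_ker {R : Type v} [CommRing R] (hpR : (p : R) = 0) : IsNilpotent (RingHom.ker (res p R)) := by
  refine ⟨2, le_bot_iff.1 ?_⟩
  rw [pow_two, Ideal.mul_le]
  exact fun x hx y hy => (Submodule.mem_bot _).2 (res_mul_res hpR hx hy)

theorem res_surjective {R : Type v} [CommRing R] : Function.Surjective (res p R) := fun a =>
  ⟨TruncatedWittVector.mk p ![a, 0], by simp⟩

variable {k : Type u} [Field k] [CharP k p] [PerfectRing k p]

/-- An étale algebra over an algebra with a lift acquires a lift. -/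
theorem exists_lift_of_etale {A C : Type v} [CommRing A] [CommRing C] [Algebra k A] [Algebra k C] [Algebra A C]
    [IsScalarTower k A C] [Algebra.Etale A C] {B₀ : Type v} [CommRing B₀] {ι₀ : W2 p k →+* B₀} {π₀ : B₀ →+* A}
    (h : IsLift p k A B₀ ι₀ π₀) :
    ∃ (B : Type v) (_ : CommRing B) (_ : Algebra B₀ B) (π : B →+* C), Algebra.Etale B₀ B ∧
      π.comp (algebraMap B₀ B) = (algebraMap A C).comp π₀ ∧ IsLift p k C B ((algebraMap B₀ B).comp ι₀) π := by
  letI : Algebra B₀ A := π₀.toAlgebra
  obtain ⟨B, _, _, hB, ⟨e⟩⟩ := Hensel.exists_etale_algebra_lift (A := B₀) (T := A) (C := C) h.surj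
  let π : B →+* C := e.toRingEquiv.toRingHom.comp (Algebra.TensorProduct.includeRight : B →ₐ[B₀] A ⊗[B₀] B).toRingHom
  have hπ : ∀ b, π b = e ((1 : A) ⊗ₜ[B₀] b) := fun b => rfl
  have hcomp : π.comp (algebraMap B₀ B) = (algebraMap A C).comp π₀ := RingHom.ext fun r => by
    change e ((1 : A) ⊗ₜ[B₀] algebraMap B₀ B r) = algebraMap A C (π₀ r)
    conv_lhs => rw [Algebra.algebraMap_eq_smul_one r, TensorProduct.tmul_smul, TensorProduct.smul_tmul', ← Algebra.algebraMap_eq_smul_one]
    exact e.commutes (π₀ r)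
  have hsurj : Function.Surjective π := by
    intro c
    obtain ⟨t, rfl⟩ := e.surjective c
    induction t with
    | zero => exact ⟨0, by rw [map_zero, map_zero]⟩
    | tmul a b =>
      obtain ⟨r, rfl⟩ := h.surj a
      refine ⟨r • b, ?_⟩
      rw [hπ, TensorProduct.tmul_smul, TensorProduct.smul_tmul']
      congr 2
      rw [Algebra.smul_def, mul_one]
      rfl
    | add x y hx hy =>
      obtain ⟨a, ha⟩ := hx
      obtain ⟨b, hb⟩ := hy
      exact ⟨a + b, by rw [map_add, map_add, ha, hb]⟩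
  have hker : ∀ b, π b = 0 → ∃ c, b = (p : B) * c := by
    intro b hb
    let gA : A →ₐ[B₀] B ⧸ Ideal.span {(p : B)} :=
      { RingHom.liftOfSurjective π₀ h.surj ⟨(Ideal.Quotient.mk (Ideal.span {(p : B)})).comp (algebraMap B₀ B), fun x hx => by
          obtain ⟨y, rfl⟩ := IsLift.exists_eq_p_mul h (RingHom.mem_ker.1 hx)
          rw [RingHom.mem_ker, RingHom.comp_apply, map_mul, map_natCast, Ideal.Quotient.eq_zero_iff_mem]
          exact Ideal.mul_mem_right _ _ (Ideal.mem_span_singleton_self _)⟩ with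
        commutes' := fun r => RingHom.liftOfRightInverse_comp_apply _ _ _ _ r }
    have h1 : (1 : A) ⊗ₜ[B₀] b = 0 := e.injective (by rw [← hπ, hb, map_zero])
    have h2 := congrArg (Algebra.TensorProduct.lift gA (Ideal.Quotient.mkₐ B₀ (Ideal.span {(p : B)})) fun _ _ => Commute.all _ _) h1
    rw [Algebra.TensorProduct.lift_tmul, map_one, one_mul, map_zero] at h2
    exact Ideal.mem_span_singleton.1 (Ideal.Quotient.eq_zero_iff_mem.1 h2)
  have hflat : ((algebraMap B₀ B).comp ι₀).Flat := RingHom.Flat.comp h.flat (by rw [RingHom.flat_algebraMap_iff]; infer_instance)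
  have hpC : (p : C) = 0 := cast_eq_zero_of_algebra p k
  refine ⟨B, inferInstance, inferInstance, π, hB, hcomp, isLift_mk hsurj hker (fun b hb => ?_) ?_⟩
  · obtain ⟨c, rfl⟩ := (flat_ringHom_iff p _).1 hflat b hb
    rw [map_mul, map_natCast, hpC, zero_mul]
  · rw [← RingHom.comp_assoc, hcomp, RingHom.comp_assoc, h.comm, ← RingHom.comp_assoc, ← IsScalarTower.algebraMap_eq]

theorem isFLiftable_of_etale {A C : Type v} [CommRing A] [CommRing C] [Algebra k A] [Algebra k C] [Algebra A C]
    [IsScalarTower k A C] [Algebra.Etale A C] (hA : IsFLiftable p k A) : IsFLiftable p k C := by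
  obtain ⟨B₀, _, ι₀, π₀, Φ₀, hΦ₀⟩ := hA
  obtain ⟨θ₀, hθ₁, hθ₂⟩ := (exists_frobLift_iff hΦ₀.toIsLift).1 ⟨Φ₀, hΦ₀⟩
  obtain ⟨B, _, _, π, hB, hcomp, hlift⟩ := exists_lift_of_etale (C := C) hΦ₀.toIsLift
  letI : Algebra B₀ (W2 p C) := ((WittGrp.truncMap p 2 (algebraMap A C)).comp θ₀).toAlgebra
  letI : Algebra B₀ C := ((algebraMap A C).comp π₀).toAlgebra
  let f : B →ₐ[B₀] C := { π with commutes' := fun r => RingHom.congr_fun hcomp r }
  have hg : ∀ r, res p C (WittGrp.truncMap p 2 (algebraMap A C) (θ₀ r)) = algebraMap A C (π₀ r) := fun r => by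
    rw [res_apply, WittGrp.coeff_truncMap, ← res_apply p A, ← RingHom.comp_apply (res p A), hθ₁]
  let g : W2 p C →ₐ[B₀] C := { res p C with commutes' := hg }
  haveI : Algebra.FormallySmooth B₀ B := inferInstance
  let θ := Algebra.FormallySmooth.liftOfSurjective f g res_surjective (res_isNilpotent_ker (cast_eq_zero_of_algebra p k))
  obtain ⟨Φ, hΦ⟩ := (exists_frobLift_iff hlift).2 ⟨θ.toRingHom,
    RingHom.ext fun b => Algebra.FormallySmooth.liftOfSurjective_apply f g res_surjective (res_isNilpotent_ker (cast_eq_zero_of_algebra p k)) b,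
    RingHom.ext fun x => by
      change θ (algebraMap B₀ B (ι₀ x)) = _
      rw [θ.commutes]
      change WittGrp.truncMap p 2 (algebraMap A C) (θ₀ (ι₀ x)) = _
      rw [← RingHom.comp_apply θ₀, hθ₂]
      refine TruncatedWittVector.ext fun i => ?_
      simp only [WittGrp.coeff_truncMap]
      exact (IsScalarTower.algebraMap_apply k A C _).symm⟩
  exact ⟨B, inferInstance, _, π, Φ, hΦ⟩

end Groth.Agent.FrobW2
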