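import Groth.Agent.FrobW2.Lift
import Mathlib.RingTheory.Flat.FaithfullyFlat.Algebra
import Mathlib.RingTheory.EssentialFiniteness
import Mathlib.RingTheory.Polynomial.Basic
import Mathlib.RingTheory.Localization.Basic
import Mathlib.RingTheory.Noetherian.Basic

/-! # Descent of liftability over `W₂(k)` along faithfully flat maps -/

namespace Groth.Agent.FrobW2

open FrobAlg TensorProduct

universe u v

variable {p : ℕ} [hp : Fact p.Prime] {k : Type u} [Field k] [CharP k p] [PerfectRing k p]

theorem exists_sol_of_faithfullyFlat {A B : Type v} [CommRing A] [CommRing B] [Algebra A B] [Module.FaithfullyFlat A B]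
    {m q : ℕ} (M : Fin q → Fin m → A) (c : Fin q → A) (y : Fin m → B)
    (hy : ∀ i, algebraMap A B (c i) = ∑ j, algebraMap A B (M i j) * y j) :
    ∃ x : Fin m → A, ∀ i, c i = ∑ j, M i j * x j := by
  classical
  let col : Fin m → (Fin q → A) := fun j i => M i j
  suffices h : c ∈ Submodule.span A (Set.range col) by
    obtain ⟨x, hx⟩ := (Submodule.mem_span_range_iff_exists_fun A).1 h
    refine ⟨x, fun i => ?_⟩
    rw [← hx, Finset.sum_apply]
    simp [col, mul_comm]
  set N := Submodule.span A (Set.range col)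
  rw [← Submodule.Quotient.mk_eq_zero N]
  apply Module.FaithfullyFlat.tensorProduct_mk_injective (A := A) (B := B) ((Fin q → A) ⧸ N)
  rw [map_zero]
  change (1 : B) ⊗ₜ[A] N.mkQ c = 0
  have h1 : N.mkQ c = ∑ i, c i • N.mkQ (Pi.single i 1) := by
    conv_lhs => rw [pi_eq_sum_univ' c]
    simp only [map_sum, map_smul]
  have h2 : ∀ i, (1 : B) ⊗ₜ[A] (c i • N.mkQ (Pi.single i 1)) =
      ∑ j, y j ⊗ₜ[A] (M i j • N.mkQ (Pi.single i 1)) := fun i => by
    rw [← TensorProduct.smul_tmul, Algebra.smul_def, mul_one, hy, TensorProduct.sum_tmul]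
    exact Finset.sum_congr rfl fun j _ => by rw [← Algebra.smul_def, TensorProduct.smul_tmul]
  rw [h1, TensorProduct.tmul_sum, Finset.sum_congr rfl fun i _ => h2 i, Finset.sum_comm]
  refine Finset.sum_eq_zero fun j _ => ?_
  rw [← TensorProduct.tmul_sum, show ∑ i, M i j • N.mkQ (Pi.single i 1) = N.mkQ (col j) by
    conv_rhs => rw [pi_eq_sum_univ' (col j)]
    simp only [map_sum, map_smul, col]]
  rw [Submodule.mkQ_apply, (Submodule.Quotient.mk_eq_zero N).2 (Submodule.subset_span ⟨j, rfl⟩), TensorProduct.tmul_zero]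

/-- Liftability descends, given a flat lift `P'` of a noetherian ring `P` covering `A` that maps to the lift over `B`. -/
theorem isW2Liftable_of_presentation {A B : Type v} [CommRing A] [Algebra k A] [CommRing B] [Algebra A B]
    [Module.FaithfullyFlat A B] [Algebra k B] {P P' : Type v} [CommRing P] [IsNoetherianRing P] [CommRing P']
    (ι₀ : W2 p k →+* P') (r : P' →+* P) (hr : Function.Surjective r)
    (hker : ∀ x, r x = 0 → ∃ y, x = (p : P') * y) (hann : ∀ x, (p : P') * x = 0 → r x = 0)
    (ψ : P →+* A) (hψ : Function.Surjective ψ) (hcomm : (ψ.comp r).comp ι₀ = (algebraMap k A).comp (res p k))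
    {B₂ : Type v} [CommRing B₂] {ιB : W2 p k →+* B₂} {πB : B₂ →+* B} (hB : IsLift p k B B₂ ιB πB)
    (h : P' →+* B₂) (hh : ∀ x, πB (h x) = algebraMap A B (ψ (r x))) : IsW2Liftable p k A := by
  classical
  obtain ⟨m, f, hf⟩ := Submodule.fg_iff_exists_fin_generating_family.1
    (IsNoetherian.noetherian (RingHom.ker ψ : Ideal P))
  choose F hF using fun j => hr (f j)
  obtain ⟨q, s, hs⟩ := Submodule.fg_iff_exists_fin_generating_family.1
    (IsNoetherian.noetherian (LinearMap.ker (Fintype.linearCombination P f)))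
  choose S hS using fun i j => hr (s i j)
  have hfψ : ∀ j, ψ (f j) = 0 := fun j => RingHom.mem_ker.1 (hf ▸ Submodule.subset_span ⟨j, rfl⟩)
  have hsf : ∀ i, ∑ j, s i j * f j = 0 := fun i => by
    have h1 : s i ∈ LinearMap.ker (Fintype.linearCombination P f) := hs ▸ Submodule.subset_span ⟨i, rfl⟩
    simpa [Fintype.linearCombination_apply] using h1
  choose c hc using fun i => hker (∑ j, S i j * F j) (by simp only [map_sum, map_mul, hS, hF, hsf])
  choose H hH using fun j => IsLift.exists_eq_p_mul hB (b := h (F j)) (by rw [hh, hF, hfψ, map_zero])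
  obtain ⟨x, hx⟩ := exists_sol_of_faithfullyFlat (fun i j => ψ (s i j)) (fun i => ψ (r (c i))) (fun j => πB (H j))
    fun i => by
      have h1 : (p : B₂) * h (c i) = (p : B₂) * ∑ j, h (S i j) * H j := by
        have h2 := congrArg h (hc i)
        rw [map_mul, map_natCast, map_sum] at h2
        rw [← h2, Finset.mul_sum]
        exact Finset.sum_congr rfl fun j _ => by rw [map_mul, hH, mul_left_comm]
      have h3 := IsLift.eq_of_p_mul hB h1
      simp only [map_sum, map_mul, hh, hS] at h3
      exact h3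
  choose X hX using fun j => (hψ.comp hr) (x j)
  let F' : Fin m → P' := fun j => F j - (p : P') * X j
  have hp0 : r (p : P') = 0 → ∀ y, r ((p : P') * y) = 0 := fun h0 y => by rw [map_mul, h0, zero_mul]
  have hpp : ∀ y, r ((p : P') * y) = 0 := by
    intro y
    refine hann _ ?_
    rw [← mul_assoc, cast_sq_eq_zero p ι₀, zero_mul]
  have hrF' : ∀ j, r (F' j) = f j := fun j => by rw [map_sub, hpp, sub_zero, hF]
  let J : Ideal P' := Ideal.span (Set.range F')
  have hJ : ∀ a ∈ J, (ψ.comp r) a = 0 := by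
    intro a ha
    have hle : J ≤ RingHom.ker (ψ.comp r) := Ideal.span_le.2 (by
      rintro _ ⟨j, rfl⟩
      change ψ (r (F' j)) = 0
      rw [hrF', hfψ])
    exact hle ha
  refine ⟨P' ⧸ J, inferInstance, (Ideal.Quotient.mk J).comp ι₀, Ideal.Quotient.lift J (ψ.comp r) hJ,
    isLift_mk (Ideal.Quotient.lift_surjective_of_surjective J hJ (hψ.comp hr)) ?_ ?_ ?_⟩
  · intro b hb
    obtain ⟨a, rfl⟩ := Ideal.Quotient.mk_surjective b
    have h1 : r a ∈ RingHom.ker ψ := hb
    rw [← hf] at h1
    obtain ⟨g, hg⟩ := (Submodule.mem_span_range_iff_exists_fun P).1 h1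
    choose G hG using fun j => hr (g j)
    obtain ⟨y, hy⟩ := hker (a - ∑ j, G j * F' j) (by
      rw [map_sub, map_sum]
      simp only [map_mul, hG, hrF']
      simp only [smul_eq_mul] at hg
      rw [hg, sub_self])
    refine ⟨Ideal.Quotient.mk J y, ?_⟩
    rw [← map_natCast (Ideal.Quotient.mk J), ← map_mul, ← hy, Ideal.Quotient.eq, sub_sub_cancel]
    exact Submodule.sum_mem _ fun j _ => J.mul_mem_left _ (Ideal.subset_span ⟨j, rfl⟩)
  · intro b hb
    obtain ⟨a, rfl⟩ := Ideal.Quotient.mk_surjective b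
    rw [← map_natCast (Ideal.Quotient.mk J), ← map_mul, Ideal.Quotient.eq_zero_iff_mem] at hb
    obtain ⟨e, he⟩ := (Submodule.mem_span_range_iff_exists_fun P').1 hb
    simp only [smul_eq_mul] at he
    have h1 : (fun j => r (e j)) ∈ LinearMap.ker (Fintype.linearCombination P f) := by
      have h2 := congrArg r he
      rw [hpp, map_sum] at h2
      simp only [map_mul, hrF'] at h2
      simpa [Fintype.linearCombination_apply] using h2
    rw [← hs] at h1
    obtain ⟨l, hl⟩ := (Submodule.mem_span_range_iff_exists_fun P).1 h1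
    choose L hL using fun i => hr (l i)
    choose d hd using fun j => hker (e j - ∑ i, L i * S i j) (by
      rw [map_sub, map_sum]
      simp only [map_mul, hL, hS]
      have h2 := congrFun hl j
      simp only [Finset.sum_apply, Pi.smul_apply, smul_eq_mul] at h2
      rw [h2, sub_self])
    have h3 : (p : P') * (a - ((∑ i, L i * (c i - ∑ j, S i j * X j)) + ∑ j, d j * F' j)) = 0 := by
      have h4 : ∀ i, (p : P') * (c i - ∑ j, S i j * X j) = ∑ j, S i j * F' j := fun i => by
        rw [mul_sub, ← hc, Finset.mul_sum, ← Finset.sum_sub_distrib]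
        exact Finset.sum_congr rfl fun j _ => by simp only [F']; ring
      rw [mul_sub, sub_eq_zero, ← he, mul_add, Finset.mul_sum]
      have h5 : ∀ i, (p : P') * (L i * (c i - ∑ j, S i j * X j)) = ∑ j, L i * S i j * F' j := fun i => by
        rw [mul_left_comm, h4, Finset.mul_sum]
        exact Finset.sum_congr rfl fun j _ => (mul_assoc _ _ _).symm
      rw [Finset.sum_congr rfl fun i _ => h5 i, Finset.sum_comm, Finset.mul_sum, ← Finset.sum_add_distrib]
      refine Finset.sum_congr rfl fun j _ => ?_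
      rw [← Finset.sum_mul, ← mul_assoc, ← add_mul]
      congr 1
      exact eq_add_of_sub_eq' (hd j)
    have h6 := congrArg ψ (hann _ h3)
    rw [map_zero, map_sub, map_sub, sub_eq_zero] at h6
    change ψ (r a) = 0
    rw [h6]
    simp only [map_add, map_sum, map_mul, map_sub, hrF', hfψ, mul_zero, Finset.sum_const_zero, add_zero, hS]
    refine Finset.sum_eq_zero fun i _ => ?_
    rw [show ∑ j, ψ (s i j) * ψ (r (X j)) = ψ (r (c i)) from ?_, sub_self, mul_zero]
    rw [hx i]
    exact Finset.sum_congr rfl fun j _ => congrArg _ (hX j)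
  · rw [← RingHom.comp_assoc]
    exact hcomm

/-- Liftability descends along a faithfully flat map for algebras essentially of finite type. -/
theorem isW2Liftable_descent {A B : Type u} [CommRing A] [Algebra k A] [Algebra.EssFiniteType k A] [CommRing B] [Algebra A B]
    [Module.FaithfullyFlat A B] [Algebra k B] [IsScalarTower k A B] (hB : IsW2Liftable p k B) : IsW2Liftable p k A := by
  obtain ⟨B₂, _, ιB, πB, hB⟩ := hB
  classical
  -- a polynomial ring dense in `A`
  obtain ⟨n, φ, hφ⟩ := Algebra.FiniteType.iff_quotient_mvPolynomial''.1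
    (inferInstance : Algebra.FiniteType k (Algebra.EssFiniteType.subalgebra k A))
  let φA : MvPolynomial (Fin n) k →+* A := (algebraMap (Algebra.EssFiniteType.subalgebra k A) A).comp φ.toRingHom
  let S : Submonoid (MvPolynomial (Fin n) k) := (IsUnit.submonoid A).comap φA
  let r₀ : MvPolynomial (Fin n) (W2 p k) →+* MvPolynomial (Fin n) k := MvPolynomial.map (res p k)
  let S' : Submonoid (MvPolynomial (Fin n) (W2 p k)) := S.comap r₀
  have hres : Function.Surjective (res p k) := fun a =>
    ⟨WittVector.truncate 2 (WittVector.teichmuller p a), by rw [res_truncate, WittVector.teichmuller_coeff_zero]⟩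
  have hr₀ : Function.Surjective r₀ := MvPolynomial.map_surjective _ hres
  have hker₀ : ∀ x, r₀ x = 0 → ∃ y, x = (p : MvPolynomial (Fin n) (W2 p k)) * y := by
    intro x hx
    have h1 : x ∈ RingHom.ker r₀ := hx
    rw [MvPolynomial.ker_map, ker_res_perfect p, Ideal.map_span, Set.image_singleton, map_natCast,
      Ideal.mem_span_singleton] at h1
    exact h1
  have hann₀ : ∀ x : MvPolynomial (Fin n) (W2 p k), (p : MvPolynomial (Fin n) (W2 p k)) * x = 0 → r₀ x = 0 := by
    intro x hx
    refine MvPolynomial.ext _ _ fun d => ?_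
    rw [MvPolynomial.coeff_map, MvPolynomial.coeff_zero]
    refine res_eq_zero_of_p_mul p ?_
    have h1 := congrArg (MvPolynomial.coeff d) hx
    rwa [← map_natCast (MvPolynomial.C (R := W2 p k) (σ := Fin n)), MvPolynomial.coeff_C_mul, MvPolynomial.coeff_zero] at h1
  let r : Localization S' →+* Localization S := IsLocalization.map (Localization S) r₀ (le_refl S')
  let ψ : Localization S →+* A := IsLocalization.lift (M := S) (g := φA) fun s => s.2
  let ι₀ : W2 p k →+* Localization S' := (algebraMap (MvPolynomial (Fin n) (W2 p k)) (Localization S')).comp (MvPolynomial.C (σ := Fin n))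
  have hr : Function.Surjective r := by
    intro z
    obtain ⟨a, s, rfl⟩ := IsLocalization.exists_mk'_eq S z
    obtain ⟨a', rfl⟩ := hr₀ a
    obtain ⟨s', hs'⟩ := hr₀ s.1
    refine ⟨IsLocalization.mk' _ a' (⟨s', show r₀ s' ∈ S from hs' ▸ s.2⟩ : S'), ?_⟩
    rw [IsLocalization.map_mk']
    congr 1
    exact Subtype.ext hs'
  have hpC : ∀ {R : Type u} [CommRing R] (g : MvPolynomial (Fin n) (W2 p k) →+* R), g (p : MvPolynomial (Fin n) (W2 p k)) = (p : R) :=
    fun g => map_natCast g p
  have hker : ∀ z, r z = 0 → ∃ y, z = (p : Localization S') * y := by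
    intro z hz
    obtain ⟨a, s, rfl⟩ := IsLocalization.exists_mk'_eq S' z
    rw [IsLocalization.map_mk', IsLocalization.mk'_eq_zero_iff] at hz
    obtain ⟨t, ht⟩ := hz
    obtain ⟨t', ht'⟩ := hr₀ t.1
    obtain ⟨y, hy⟩ := hker₀ (t' * a) (by rw [map_mul, ht']; exact ht)
    refine ⟨IsLocalization.mk' _ y ((⟨t', show r₀ t' ∈ S from ht' ▸ t.2⟩ : S') * s), ?_⟩
    rw [← hpC (algebraMap (MvPolynomial (Fin n) (W2 p k)) (Localization S')), IsLocalization.mul_mk'_eq_mk'_of_mul, ← hy]
    exact (IsLocalization.mk'_cancel a s (⟨t', show r₀ t' ∈ S from ht' ▸ t.2⟩ : S')).symm.trans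
      (by congr 1 <;> simp [mul_comm])
  have hann : ∀ z : Localization S', (p : Localization S') * z = 0 → r z = 0 := by
    intro z hz
    obtain ⟨a, s, rfl⟩ := IsLocalization.exists_mk'_eq S' z
    rw [← hpC (algebraMap (MvPolynomial (Fin n) (W2 p k)) (Localization S')), IsLocalization.mul_mk'_eq_mk'_of_mul, IsLocalization.mk'_eq_zero_iff] at hz
    obtain ⟨t, ht⟩ := hz
    rw [IsLocalization.map_mk', IsLocalization.mk'_eq_zero_iff]
    refine ⟨⟨r₀ t, t.2⟩, ?_⟩
    have h1 := hann₀ (t * a) (by rw [← ht]; ring)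
    rwa [map_mul] at h1
  have hψ : Function.Surjective ψ := by
    intro y
    obtain ⟨a, s, rfl⟩ := IsLocalization.exists_mk'_eq (Algebra.EssFiniteType.submonoid k A) y
    obtain ⟨a', rfl⟩ := hφ a
    obtain ⟨s', hs'⟩ := hφ s.1
    have hs2 : s' ∈ S := by
      change IsUnit (algebraMap _ A (φ s'))
      rw [hs']
      exact s.2
    refine ⟨IsLocalization.mk' _ a' ⟨s', hs2⟩, ?_⟩
    rw [IsLocalization.lift_mk'_spec]
    change algebraMap _ A (φ a') = algebraMap _ A (φ s') * _
    rw [hs', mul_comm, IsLocalization.mk'_spec]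
  have hψr : ∀ y, ψ (r (algebraMap _ (Localization S') y)) = φA (r₀ y) := fun y => by
    rw [IsLocalization.map_eq, IsLocalization.lift_eq]
  choose g hg using fun i => hB.surj (algebraMap A B (φA (MvPolynomial.X i)))
  let h₀ : MvPolynomial (Fin n) (W2 p k) →+* B₂ := MvPolynomial.eval₂Hom ιB g
  have hh₀ : ∀ y, πB (h₀ y) = algebraMap A B (φA (r₀ y)) := by
    intro y
    refine DFunLike.congr_fun (f := πB.comp h₀) (g := (algebraMap A B).comp (φA.comp r₀)) (MvPolynomial.ringHom_ext (fun a => ?_) fun i => ?_) y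
    · have h1 := RingHom.congr_fun hB.comm a
      simp only [RingHom.comp_apply] at h1
      simp only [RingHom.comp_apply, h₀, r₀, φA, MvPolynomial.eval₂Hom_C, MvPolynomial.map_C, h1]
      rw [IsScalarTower.algebraMap_apply k A B]
      congr 1
      rw [IsScalarTower.algebraMap_apply k (Algebra.EssFiniteType.subalgebra k A) A]
      exact congrArg _ (φ.commutes _).symm
    · simp only [RingHom.comp_apply, h₀, r₀, MvPolynomial.eval₂Hom_X', MvPolynomial.map_X, hg]
  have hu : ∀ s : S', IsUnit (h₀ s) := by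
    intro s
    have h1 : IsUnit (πB (h₀ s)) := by rw [hh₀]; exact (s.2 : IsUnit (φA (r₀ s))).map _
    obtain ⟨b, hb⟩ := hB.surj ↑h1.unit⁻¹
    obtain ⟨d, hd⟩ := IsLift.exists_eq_p_mul hB (b := h₀ s * b - 1) (by
      rw [map_sub, map_mul, hb, IsUnit.mul_val_inv, map_one, sub_self])
    refine IsUnit.of_mul_eq_one (b * (1 - (p : B₂) * d)) ?_
    rw [← mul_assoc, eq_add_of_sub_eq hd, show ((p : B₂) * d + 1) * (1 - (p : B₂) * d) = 1 - (p * p) * (d * d) by ring,
      cast_sq_eq_zero p ιB, zero_mul, sub_zero]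
  let h : Localization S' →+* B₂ := IsLocalization.lift hu
  refine isW2Liftable_of_presentation ι₀ r hr hker hann ψ hψ ?_ hB h fun z => ?_
  · refine RingHom.ext fun w => ?_
    simp only [RingHom.comp_apply, ι₀, hψr, r₀, φA, MvPolynomial.map_C]
    rw [IsScalarTower.algebraMap_apply k (Algebra.EssFiniteType.subalgebra k A) A]
    exact congrArg _ (φ.commutes _)
  · refine DFunLike.congr_fun (f := πB.comp h) (g := (algebraMap A B).comp (ψ.comp r)) (IsLocalization.ringHom_ext S' (RingHom.ext fun y => ?_)) z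
    simp only [RingHom.comp_apply, h, IsLocalization.lift_eq, hh₀, hψr]

end Groth.Agent.FrobW2
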