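import Groth.Agent.FrobW2.Basic

/-! # Liftings over `W₂(k)`: criterion and descent along a linear retraction -/

namespace Groth.Agent.FrobW2

open FrobAlg

universe u v

variable {p : ℕ} [hp : Fact p.Prime] {k : Type u} [Field k] [CharP k p] [PerfectRing k p]
  {A B : Type v} [CommRing A] [Algebra k A] [CommRing B] {ι : W2 p k →+* B} {π : B →+* A}

theorem IsLift.ker_span (h : IsLift p k A B ι π) : RingHom.ker π = Ideal.span {(p : B)} := by
  rw [h.ker_eq, span_p_eq_map]

theorem IsLift.exists_eq_p_mul (h : IsLift p k A B ι π) {b : B} (hb : π b = 0) : ∃ c, b = (p : B) * c := by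
  have : b ∈ RingHom.ker π := hb
  rw [IsLift.ker_span h, Ideal.mem_span_singleton] at this
  exact this

theorem IsLift.map_p (h : IsLift p k A B ι π) : π (p : B) = 0 :=
  RingHom.mem_ker.1 (IsLift.ker_span h ▸ Ideal.mem_span_singleton_self _)

theorem IsLift.map_p_mul (h : IsLift p k A B ι π) (b : B) : π ((p : B) * b) = 0 := by
  rw [map_mul, IsLift.map_p h, zero_mul]

theorem IsLift.eq_of_p_mul (h : IsLift p k A B ι π) {b c : B} (e : (p : B) * b = (p : B) * c) :
    π b = π c := by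
  obtain ⟨d, hd⟩ := (flat_ringHom_iff p ι).1 h.flat (b - c) (by rw [mul_sub, e, sub_self])
  rw [← sub_eq_zero, ← map_sub, hd, IsLift.map_p_mul h]

theorem IsLift.p_mul_eq (h : IsLift p k A B ι π) {b c : B} (e : π b = π c) :
    (p : B) * b = (p : B) * c := by
  obtain ⟨d, hd⟩ := IsLift.exists_eq_p_mul h (b := b - c) (by rw [map_sub, e, sub_self])
  rw [← sub_eq_zero, ← mul_sub, hd, ← mul_assoc, cast_sq_eq_zero p ι, zero_mul]

theorem isLift_mk (hs : Function.Surjective π) (hp0 : ∀ b : B, π b = 0 → ∃ c, b = (p : B) * c)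
    (hann : ∀ b : B, (p : B) * b = 0 → π b = 0)
    (hcomm : π.comp ι = (algebraMap k A).comp (res p k)) : IsLift p k A B ι π where
  flat := (flat_ringHom_iff p ι).2 fun b hb => hp0 b (hann b hb)
  surj := hs
  ker_eq := by
    rw [span_p_eq_map]
    refine le_antisymm (fun b hb => Ideal.mem_span_singleton.2 (hp0 b hb)) ?_
    rw [Ideal.span_singleton_le_iff_mem, RingHom.mem_ker, map_natCast]
    exact cast_eq_zero_of_algebra p k
  comm := hcomm

section Retraction

variable {C : Type v} [CommRing C] [Algebra k C] [Algebra A C] [IsScalarTower k A C]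
  (r : C →ₗ[A] A) (ιC : W2 p k →+* B) (πC : B →+* C)

/-- `B ×_C A`. -/
def pullRing : Subring (B × A) :=
  ((πC.comp (RingHom.fst B A)).eqLocus ((algebraMap A C).comp (RingHom.snd B A)))

theorem mem_pullRing (x : B × A) : x ∈ pullRing πC ↔ πC x.1 = algebraMap A C x.2 := Iff.rfl

variable (p) in
/-- The kernel of `r` moved into the kernel of `B ×_C A → A`. -/
def pullIdeal : Ideal (pullRing (A := A) πC) where
  carrier := {x | x.1.2 = 0 ∧ ∃ b, x.1.1 = (p : B) * b ∧ r (πC b) = 0}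
  zero_mem' := ⟨rfl, 0, by simp, by simp⟩
  add_mem' := by
    rintro x y ⟨hx, b, hb, hb'⟩ ⟨hy, c, hc, hc'⟩
    exact ⟨by simp [hx, hy], b + c, by simp [hb, hc, mul_add], by simp [hb', hc']⟩
  smul_mem' := by
    rintro e x ⟨hx, b, hb, hb'⟩
    refine ⟨by simp [hx], e.1.1 * b, by simp [hb, mul_left_comm], ?_⟩
    rw [map_mul, (mem_pullRing πC _).1 e.2, ← Algebra.smul_def, map_smul, hb', smul_zero]

theorem exists_isLift_of_retraction (hr : ∀ a : A, r (algebraMap A C a) = a)
    (hB : IsLift p k C B ιC πC) :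
    ∃ (ι' : W2 p k →+* pullRing (A := A) πC ⧸ pullIdeal p r πC)
      (π' : pullRing (A := A) πC ⧸ pullIdeal p r πC →+* A),
      IsLift p k A _ ι' π' := by
  have hpA : (p : A) = 0 := cast_eq_zero_of_algebra p k
  have hmem : ∀ w, (ιC.prod ((algebraMap k A).comp (res p k))) w ∈ pullRing (A := A) πC := fun w => by
    rw [mem_pullRing]
    exact (RingHom.congr_fun hB.comm w).trans (IsScalarTower.algebraMap_apply k A C _)
  refine ⟨(Ideal.Quotient.mk _).comp ((ιC.prod ((algebraMap k A).comp (res p k))).codRestrict _ hmem),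
    Ideal.Quotient.lift _ ((RingHom.snd B A).comp (pullRing (A := A) πC).subtype) (fun x hx => hx.1),
    isLift_mk ?_ ?_ ?_ ?_⟩
  · intro a
    obtain ⟨b, hb⟩ := hB.surj (algebraMap A C a)
    exact ⟨Ideal.Quotient.mk _ ⟨(b, a), hb⟩, rfl⟩
  · intro q hq
    obtain ⟨⟨⟨b, a⟩, hba⟩, rfl⟩ := Ideal.Quotient.mk_surjective q
    obtain rfl : a = 0 := hq
    obtain ⟨c, rfl⟩ := IsLift.exists_eq_p_mul hB (show πC b = 0 by simpa [mem_pullRing] using hba)
    obtain ⟨d, hd⟩ := hB.surj (algebraMap A C (r (πC c)))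
    refine ⟨Ideal.Quotient.mk _ ⟨(d, r (πC c)), hd⟩, ?_⟩
    rw [← map_natCast (Ideal.Quotient.mk (pullIdeal p r πC)), ← map_mul, Ideal.Quotient.eq]
    refine ⟨by simp [hpA], c - d, by simp [mul_sub], ?_⟩
    rw [map_sub, map_sub, hd, hr, sub_self]
  · intro q hq
    obtain ⟨⟨⟨b, a⟩, hba⟩, rfl⟩ := Ideal.Quotient.mk_surjective q
    rw [← map_natCast (Ideal.Quotient.mk (pullIdeal p r πC)), ← map_mul,
      Ideal.Quotient.eq_zero_iff_mem] at hq
    obtain ⟨-, c, hc, hc'⟩ := hq
    change a = 0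
    have h1 : πC b = πC c := IsLift.eq_of_p_mul hB (by simpa using hc)
    rw [← h1, show πC b = algebraMap A C a from hba, hr] at hc'
    exact hc'
  · ext w
    rfl

theorem exists_ringEquiv_of_retraction (hr : ∀ a : A, r (algebraMap A C a) = a)
    (hB : IsLift p k C B ιC πC) {A' : Type v} [CommRing A'] {ιA : W2 p k →+* A'} {πA : A' →+* A}
    (hA : IsLift p k A A' ιA πA) (φ' : A' →+* B) (hφπ : πC.comp φ' = (algebraMap A C).comp πA) :
    ∃ e : A' ≃+* pullRing (A := A) πC ⧸ pullIdeal p r πC, ∀ x,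
      e x = Ideal.Quotient.mk _ ⟨(φ' x, πA x), RingHom.congr_fun hφπ x⟩ := by
  let f : A' →+* pullRing (A := A) πC ⧸ pullIdeal p r πC :=
    (Ideal.Quotient.mk _).comp ((φ'.prod πA).codRestrict _ fun x => RingHom.congr_fun hφπ x)
  refine ⟨RingEquiv.ofBijective f ⟨?_, ?_⟩, fun x => rfl⟩
  · rw [injective_iff_map_eq_zero]
    intro x hx
    obtain ⟨hx2, c, hc, hc'⟩ := Ideal.Quotient.eq_zero_iff_mem.1 hx
    obtain ⟨y, rfl⟩ := IsLift.exists_eq_p_mul hA (show πA x = 0 from hx2)
    have h1 : πC (φ' y) = πC c := IsLift.eq_of_p_mul hB (by simpa using hc)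
    rw [← h1, show πC (φ' y) = algebraMap A C (πA y) from RingHom.congr_fun hφπ y, hr] at hc'
    rw [IsLift.p_mul_eq hA (hc'.trans (map_zero πA).symm), mul_zero]
  · intro q
    obtain ⟨⟨⟨b, a⟩, hba⟩, rfl⟩ := Ideal.Quotient.mk_surjective q
    obtain ⟨x, rfl⟩ := hA.surj a
    obtain ⟨c, hc⟩ := IsLift.exists_eq_p_mul hB (b := b - φ' x) (by
      rw [map_sub, sub_eq_zero, show πC (φ' x) = algebraMap A C (πA x) from RingHom.congr_fun hφπ x]
      exact hba)
    obtain ⟨y, hy⟩ := hA.surj (r (πC c))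
    refine ⟨x + (p : A') * y, Ideal.Quotient.eq.2 ⟨?_, φ' y - c, ?_, ?_⟩⟩
    · simp [cast_eq_zero_of_algebra p k (A := A)]
    · simp only [RingHom.codRestrict, AddSubgroupClass.coe_sub]
      change φ' (x + (p : A') * y) - b = _
      rw [map_add, map_mul, map_natCast, mul_sub, ← hc]
      abel
    · rw [map_sub, map_sub, show πC (φ' y) = algebraMap A C (πA y) from RingHom.congr_fun hφπ y,
        hr, hy, sub_self]

end Retraction

end Groth.Agent.FrobW2
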