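import Groth.Agent.FrobW2.Lift
import Mathlib.Algebra.Polynomial.Coeff
import Mathlib.Algebra.Polynomial.Basic
import Mathlib.RingTheory.MvPolynomial.Basic
import Mathlib.Algebra.CharP.Lemmas
import Mathlib.Data.ZMod.Basic
import Mathlib.Data.Nat.Choose.Dvd
import Mathlib.Tactic.LinearCombination

/-! # The `p`-neighbourhood of a split quadric does not lift -/

namespace Groth.Agent.FrobW2

open FrobAlg

universe u

variable {p : ℕ} [hp : Fact p.Prime] {k : Type u} [Field k] [CharP k p] {m : ℕ}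

/-- The values on the invariant variables. -/
noncomputable def zeta (R : Type*) [CommRing R] (m : ℕ) : Fin (m + 3) → Polynomial (Polynomial R) :=
  Fin.cases (Polynomial.C Polynomial.X : Polynomial (Polynomial R))
    (Fin.cases (Polynomial.X : Polynomial (Polynomial R))
      (Fin.cases (-(Polynomial.C (Polynomial.X : Polynomial R) + Polynomial.X)) fun _ => (0 : Polynomial (Polynomial R))))

theorem sum_zeta (R : Type*) [CommRing R] (m : ℕ) : ∑ i, zeta R m i = 0 := by
  rw [Fin.sum_univ_succ, Fin.sum_univ_succ, Fin.sum_univ_succ]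
  simp only [zeta, Fin.cases_zero, Fin.cases_succ, Finset.sum_const_zero, add_zero]
  ring

theorem sum_zeta_pow (R : Type*) [CommRing R] (m : ℕ) :
    ∑ i, zeta R m i ^ p = Polynomial.C (Polynomial.X : Polynomial R) ^ p + (Polynomial.X : Polynomial (Polynomial R)) ^ p +
      (-(Polynomial.C (Polynomial.X : Polynomial R) + Polynomial.X)) ^ p := by
  rw [Fin.sum_univ_succ, Fin.sum_univ_succ, Fin.sum_univ_succ]
  simp only [zeta, Fin.cases_zero, Fin.cases_succ, zero_pow hp.out.ne_zero, Finset.sum_const_zero, add_zero]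
  ring

omit [CharP k p] in
theorem coeff_mul_C_X_pow (r : Polynomial (Polynomial k)) :
    ((Polynomial.C Polynomial.X ^ p * r).coeff 1).coeff (p - 1) = 0 := by
  rw [← Polynomial.C_pow, Polynomial.coeff_C_mul, Polynomial.coeff_X_pow_mul', if_neg]
  have := hp.out.one_lt
  omega

omit [CharP k p] in
theorem coeff_mul_X_pow (r : Polynomial (Polynomial k)) : ((Polynomial.X ^ p * r).coeff 1).coeff (p - 1) = 0 := by
  rw [Polynomial.coeff_X_pow_mul', if_neg (by have := hp.out.one_lt; omega), Polynomial.coeff_zero]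

theorem coeff_zeta_pow_mul (i : Fin (m + 3)) (r : Polynomial (Polynomial k)) :
    ((zeta k m i ^ p * r).coeff 1).coeff (p - 1) = 0 := by
  refine Fin.cases ?_ (fun i => ?_) i
  · exact coeff_mul_C_X_pow r
  refine Fin.cases ?_ (fun i => ?_) i
  · exact coeff_mul_X_pow r
  refine Fin.cases ?_ (fun i => ?_) i
  · simp only [zeta, Fin.cases_succ, Fin.cases_zero]
    change (((-(Polynomial.C (Polynomial.X : Polynomial k) + Polynomial.X : Polynomial (Polynomial k))) ^ p * r).coeff 1).coeff (p - 1) = 0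
    have e : ∀ x : Polynomial (Polynomial k), (-x) ^ p = (-1) ^ p * x ^ p := fun x => neg_pow (R := Polynomial (Polynomial k)) x p
    rw [e, add_pow_char, mul_assoc, add_mul, ← Polynomial.C_1, ← Polynomial.C_neg, ← Polynomial.C_pow (a := (-1 : Polynomial k)),
      Polynomial.coeff_C_mul, Polynomial.coeff_add, ← Polynomial.C_1, ← Polynomial.C_neg, ← Polynomial.C_pow (a := (-1 : k)),
      Polynomial.coeff_C_mul, Polynomial.coeff_add, coeff_mul_C_X_pow, coeff_mul_X_pow, add_zero, mul_zero]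
  · simp only [zeta, Fin.cases_succ, zero_pow hp.out.ne_zero, zero_mul, Polynomial.coeff_zero]

/-- Balanced exponents. -/
def Balanced (d : Fin (m + 3) × Fin 2 →₀ ℕ) : Prop := ∀ i, d (i, 0) = d (i, 1)

open Classical in
/-- The projection to the invariant part, evaluated. -/
noncomputable def invEval : MvPolynomial (Fin (m + 3) × Fin 2) k →ₗ[k] Polynomial (Polynomial k) :=
  (MvPolynomial.basisMonomials (Fin (m + 3) × Fin 2) k).constr k fun d =>
    if Balanced d then ∏ i, zeta k m i ^ d (i, 0) else 0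

open Classical in
omit [CharP k p] in
theorem invEval_monomial (d : Fin (m + 3) × Fin 2 →₀ ℕ) :
    invEval (k := k) (MvPolynomial.monomial d 1) = if Balanced d then ∏ i, zeta k m i ^ d (i, 0) else 0 := by
  unfold invEval
  exact Module.Basis.constr_basis (MvPolynomial.basisMonomials (Fin (m + 3) × Fin 2) k) k _ d

omit [CharP k p] in
theorem invEval_one : invEval (k := k) (m := m) 1 = 1 := by
  rw [← MvPolynomial.C_1, MvPolynomial.C_apply, invEval_monomial, if_pos (show Balanced (0 : Fin (m + 3) × Fin 2 →₀ ℕ) from fun i => rfl)]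
  simp

omit [CharP k p] in
theorem invEval_mul_z (i : Fin (m + 3)) (g : MvPolynomial (Fin (m + 3) × Fin 2) k) :
    invEval (MvPolynomial.X (i, 0) * MvPolynomial.X (i, 1) * g) = zeta k m i * invEval g := by
  classical
  induction g using MvPolynomial.induction_on' with
  | add f g hf hg => rw [mul_add, map_add, hf, hg, map_add, mul_add]
  | monomial d a =>
    rw [← mul_one a, ← smul_eq_mul a 1, ← MvPolynomial.smul_monomial, mul_smul_comm, map_smul, map_smul, mul_smul_comm]
    congr 1
    rw [MvPolynomial.X, MvPolynomial.X, MvPolynomial.monomial_mul, MvPolynomial.monomial_mul, one_mul, one_mul, invEval_monomial, invEval_monomial]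
    set d' := Finsupp.single (i, (0 : Fin 2)) 1 + Finsupp.single (i, (1 : Fin 2)) 1 + d with hd'
    have h0 : ∀ l, d' (l, 0) = (if l = i then 1 else 0) + d (l, 0) := fun l => by simp [hd', Finsupp.single_apply, eq_comm]
    have h1 : ∀ l, d' (l, 1) = (if l = i then 1 else 0) + d (l, 1) := fun l => by simp [hd', Finsupp.single_apply, eq_comm]
    have hb : Balanced d' ↔ Balanced d := forall_congr' fun l => by rw [h0, h1, add_left_cancel_iff]
    by_cases hd : Balanced d
    · rw [if_pos hd, if_pos (hb.2 hd)]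
      simp only [h0, pow_add, Finset.prod_mul_distrib, pow_ite, pow_one, pow_zero, Finset.prod_ite_eq', Finset.mem_univ, if_true]
    · rw [if_neg hd, if_neg (hd ∘ hb.1), mul_zero]

omit [CharP k p] in
theorem invEval_mul_pow (v : Fin (m + 3) × Fin 2) (g : MvPolynomial (Fin (m + 3) × Fin 2) k) :
    ∃ r, invEval (MvPolynomial.X v ^ p * g) = zeta k m v.1 ^ p * r := by
  classical
  induction g using MvPolynomial.induction_on' with
  | add f g hf hg =>
    obtain ⟨a, ha⟩ := hf
    obtain ⟨b, hb⟩ := hg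
    exact ⟨a + b, by rw [mul_add, map_add, ha, hb, mul_add]⟩
  | monomial d a =>
    rw [MvPolynomial.X_pow_eq_monomial, MvPolynomial.monomial_mul, one_mul, ← mul_one a, ← smul_eq_mul a 1, ← MvPolynomial.smul_monomial,
      map_smul, invEval_monomial]
    split
    · rename_i hb
      refine ⟨a • (zeta k m v.1 ^ ((Finsupp.single v p + d) (v.1, 0) - p) * ∏ i ∈ Finset.univ.erase v.1, zeta k m i ^ (Finsupp.single v p + d) (i, 0)), ?_⟩
      have hle : p ≤ (Finsupp.single v p + d) (v.1, 0) := by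
        obtain ⟨i, b⟩ := v
        have h1 := hb i
        fin_cases b <;> simp [Finsupp.single_apply] at h1 ⊢ <;> omega
      rw [mul_smul_comm, ← mul_assoc, ← pow_add, Nat.add_sub_cancel' hle,
        Finset.mul_prod_erase Finset.univ (fun i => zeta k m i ^ (Finsupp.single v p + d) (i, 0)) (Finset.mem_univ _)]
    · exact ⟨0, by rw [smul_zero, mul_zero]⟩

theorem exists_int_poly (n : ℕ) : ∃ c : MvPolynomial (Fin n) ℤ,
    (∑ i, MvPolynomial.X i) ^ p - ∑ i, MvPolynomial.X i ^ p = MvPolynomial.C (p : ℤ) * c := by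
  have h : MvPolynomial.C (p : ℤ) ∣ (∑ i, MvPolynomial.X i) ^ p - ∑ i : Fin n, MvPolynomial.X i ^ p := by
    refine (MvPolynomial.C_dvd_iff_map_hom_eq_zero (Int.castRingHom (ZMod p)) (p : ℤ) (fun r => ?_) _).2 ?_
    · exact ZMod.intCast_zmod_eq_zero_iff_dvd r p
    · rw [map_sub, map_pow, map_sum, map_sum, sum_pow_char]
      simp only [map_pow, MvPolynomial.map_X, sub_self]
  exact h

/-- The relations: the quadric and the `p`-th powers. -/
def rels (p : ℕ) (k : Type u) [Field k] (m : ℕ) : Set (MvPolynomial (Fin (m + 3) × Fin 2) k) :=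
  insert (∑ i : Fin (m + 3), MvPolynomial.X (i, (0 : Fin 2)) * MvPolynomial.X (i, (1 : Fin 2)))
    (Set.range fun v : Fin (m + 3) × Fin 2 => (MvPolynomial.X v : MvPolynomial (Fin (m + 3) × Fin 2) k) ^ p)

/-- The invariant variables. -/
noncomputable def thetaHom (k : Type u) [Field k] (m : ℕ) : MvPolynomial (Fin (m + 3)) ℤ →+* MvPolynomial (Fin (m + 3) × Fin 2) k :=
  MvPolynomial.eval₂Hom (Int.castRingHom _) fun i => MvPolynomial.X (i, (0 : Fin 2)) * MvPolynomial.X (i, (1 : Fin 2))

theorem invariant_mem_eq_zero : ∀ x ∈ Ideal.span (rels p k m), ∀ g, ((invEval (g * x)).coeff 1).coeff (p - 1) = 0 := by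
  intro x hx
  induction hx using Submodule.span_induction with
  | mem y hy =>
    intro g
    rcases hy with rfl | ⟨v, rfl⟩
    · rw [mul_comm, Finset.sum_mul, map_sum]
      simp only [invEval_mul_z]
      rw [← Finset.sum_mul, sum_zeta, zero_mul, Polynomial.coeff_zero, Polynomial.coeff_zero]
    · obtain ⟨r, hr⟩ := invEval_mul_pow (p := p) v g
      rw [mul_comm, hr]
      exact coeff_zeta_pow_mul _ _
  | zero => intro g; simp
  | add y z _ _ hy hz => intro g; rw [mul_add, map_add, Polynomial.coeff_add, Polynomial.coeff_add, hy, hz, add_zero]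
  | smul a y _ hy => intro g; rw [smul_eq_mul, ← mul_assoc]; exact hy _

theorem theta_ne_mem_add (c : MvPolynomial (Fin (m + 3)) ℤ)
    (hc : (∑ i, MvPolynomial.X i) ^ p - ∑ i, MvPolynomial.X i ^ p = MvPolynomial.C (p : ℤ) * c) (r : k)
    (hmem : thetaHom k m c - MvPolynomial.C r ∈ Ideal.span (rels p k m)) : False := by
  let μ : Polynomial (Polynomial ℤ) →+* Polynomial (Polynomial k) := Polynomial.mapRingHom (Polynomial.mapRingHom (Int.castRingHom k))
  let ψ : MvPolynomial (Fin (m + 3)) ℤ →+* Polynomial (Polynomial ℤ) := MvPolynomial.eval₂Hom (Int.castRingHom _) (zeta ℤ m)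
  have hμζ : ∀ i, μ (zeta ℤ m i) = zeta k m i := by
    intro i
    refine Fin.cases ?_ (Fin.cases ?_ (Fin.cases ?_ fun i => ?_)) i <;> simp only [zeta, Fin.cases_zero, Fin.cases_succ] <;> simp [μ]
  have hθ : ∀ a g, invEval ((thetaHom k m) a * g) = μ (ψ a) * invEval g := by
    intro a
    induction a using MvPolynomial.induction_on with
    | C z =>
      intro g
      simp only [thetaHom, ψ, MvPolynomial.eval₂Hom_C, eq_intCast, map_intCast, ← zsmul_eq_mul, map_zsmul]
    | add f g hf hg => intro x; rw [map_add, add_mul, map_add, hf, hg, map_add, map_add, add_mul]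
    | mul_X q i hq' =>
      intro g
      rw [map_mul (thetaHom k m), show (thetaHom k m) (MvPolynomial.X i) = MvPolynomial.X (i, (0 : Fin 2)) * MvPolynomial.X (i, (1 : Fin 2)) from MvPolynomial.eval₂Hom_X' _ _ i,
        mul_assoc, hq', invEval_mul_z, map_mul ψ, map_mul μ, show ψ (MvPolynomial.X i) = zeta ℤ m i from MvPolynomial.eval₂Hom_X' _ _ i, hμζ, mul_assoc]
  have hval : ((ψ c).coeff 1).coeff (p - 1) = (-1) ^ (p + 1) := by
    have h1 := congrArg ψ hc
    simp only [map_sub, map_pow, map_sum, map_mul, ψ, MvPolynomial.eval₂Hom_X', MvPolynomial.eval₂Hom_C, eq_intCast, Int.cast_natCast, map_natCast] at h1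
    have e : ∀ x : Polynomial (Polynomial ℤ), (-x) ^ p = (-1) ^ p * x ^ p := fun x => neg_pow (R := Polynomial (Polynomial ℤ)) x p
    rw [sum_zeta, zero_pow hp.out.ne_zero, sum_zeta_pow, e, zero_sub] at h1
    have h2 := congrArg (fun z : Polynomial (Polynomial ℤ) => (z.coeff 1).coeff (p - 1)) h1
    have h1p : (1 : ℕ) ≠ p := hp.out.one_lt.ne
    simp only [Polynomial.coeff_neg, Polynomial.coeff_add, add_comm (Polynomial.C (Polynomial.X : Polynomial ℤ)) Polynomial.X] at h2
    rw [← Polynomial.C_eq_natCast, Polynomial.coeff_C_mul, ← Polynomial.C_eq_natCast, Polynomial.coeff_C_mul,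
      ← Polynomial.C_pow, Polynomial.coeff_C, if_neg one_ne_zero, Polynomial.coeff_X_pow, if_neg h1p,
      ← Polynomial.C_1, ← Polynomial.C_neg, ← Polynomial.C_pow (a := (-1 : Polynomial ℤ)), Polynomial.coeff_C_mul, Polynomial.coeff_X_add_C_pow,
      ← Polynomial.C_1, ← Polynomial.C_neg, ← Polynomial.C_pow (a := (-1 : ℤ)), Polynomial.coeff_C_mul, Nat.choose_one_right,
      ← Polynomial.C_eq_natCast, Polynomial.coeff_mul_C, Polynomial.coeff_X_pow, if_pos rfl] at h2
    simp only [Polynomial.coeff_zero, zero_add, one_mul] at h2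
    refine mul_left_cancel₀ (Int.natCast_ne_zero.2 hp.out.ne_zero) ?_
    rw [pow_succ]
    simp only [ψ] at h2 ⊢
    linear_combination -h2
  have h3 := invariant_mem_eq_zero _ hmem 1
  rw [one_mul, map_sub, ← mul_one (thetaHom k m c), hθ, invEval_one, mul_one, ← mul_one (MvPolynomial.C r),
    ← MvPolynomial.smul_eq_C_mul, map_smul, invEval_one, Polynomial.coeff_sub, Polynomial.coeff_sub] at h3
  simp only [Polynomial.coeff_smul, Polynomial.coeff_one, one_ne_zero, if_false, Polynomial.coeff_zero, smul_zero, sub_zero,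
    μ, Polynomial.coe_mapRingHom, Polynomial.coeff_map, hval, map_pow, map_neg, map_one] at h3
  exact pow_ne_zero _ (neg_ne_zero.2 one_ne_zero) h3

theorem not_isW2Liftable_quadric [PerfectRing k p] :
    ¬ FrobAlg.IsW2Liftable p k
      (MvPolynomial (Fin (m + 3) × Fin 2) k ⧸ Ideal.span
        (insert (∑ i : Fin (m + 3), MvPolynomial.X (i, (0 : Fin 2)) * MvPolynomial.X (i, (1 : Fin 2)))
          (Set.range fun v : Fin (m + 3) × Fin 2 => (MvPolynomial.X v : MvPolynomial (Fin (m + 3) × Fin 2) k) ^ p))) := by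
  rintro ⟨B, _, ι, π, hl⟩
  let S : Set (MvPolynomial (Fin (m + 3) × Fin 2) k) := insert (∑ i : Fin (m + 3), MvPolynomial.X (i, (0 : Fin 2)) * MvPolynomial.X (i, (1 : Fin 2)))
          (Set.range fun v : Fin (m + 3) × Fin 2 => (MvPolynomial.X v : MvPolynomial (Fin (m + 3) × Fin 2) k) ^ p)
  choose b hb using fun v : Fin (m + 3) × Fin 2 => hl.surj (Ideal.Quotient.mk (Ideal.span S) (MvPolynomial.X v))
  obtain ⟨c, hc⟩ := exists_int_poly (p := p) (m + 3)
  let γ : MvPolynomial (Fin (m + 3)) ℤ →+* B := MvPolynomial.eval₂Hom (Int.castRingHom B) fun i => b (i, 0) * b (i, 1)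
  let θ : MvPolynomial (Fin (m + 3)) ℤ →+* MvPolynomial (Fin (m + 3) × Fin 2) k :=
    MvPolynomial.eval₂Hom (Int.castRingHom _) fun i => MvPolynomial.X (i, (0 : Fin 2)) * MvPolynomial.X (i, (1 : Fin 2))
  have hγ : ∀ a, π (γ a) = Ideal.Quotient.mk (Ideal.span S) (θ a) := fun a =>
    DFunLike.congr_fun (f := π.comp γ) (g := (Ideal.Quotient.mk (Ideal.span S)).comp θ)
      (MvPolynomial.ringHom_ext (fun z => by simp) fun i => by simp [γ, θ, hb]) a
  have hQ : ∀ v, ∃ h, b v ^ p = (p : B) * h := fun v => IsLift.exists_eq_p_mul hl (by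
    rw [map_pow, hb, ← map_pow, Ideal.Quotient.eq_zero_iff_mem]
    exact Ideal.subset_span (Set.mem_insert_of_mem _ ⟨v, rfl⟩))
  choose h hh using hQ
  obtain ⟨hq, hhq⟩ := IsLift.exists_eq_p_mul hl (b := ∑ i, b (i, 0) * b (i, 1)) (by
    rw [map_sum]
    simp only [map_mul, hb]
    simp only [← map_mul, ← map_sum]
    rw [Ideal.Quotient.eq_zero_iff_mem]
    exact Ideal.subset_span (Set.mem_insert _ _))
  have hpc : (p : B) * γ c = 0 := by
    have h1 := congrArg γ hc
    simp only [map_sub, map_pow, map_sum, map_mul, γ, MvPolynomial.eval₂Hom_X', MvPolynomial.eval₂Hom_C, eq_intCast, Int.cast_natCast, map_natCast] at h1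
    change (p : B) * γ c = 0
    rw [← h1, hhq, mul_pow, Finset.sum_eq_zero fun i _ => ?_, sub_zero]
    · obtain ⟨q, hq'⟩ : ∃ q, p = q + 2 := ⟨p - 2, by have := hp.out.two_le; omega⟩
      rw [show (p : B) ^ p = (p : B) * p * (p : B) ^ q by rw [← pow_two, ← pow_add, add_comm 2 q, ← hq'],
        cast_sq_eq_zero p ι, zero_mul, zero_mul]
    · rw [mul_pow, hh, hh, mul_mul_mul_comm, cast_sq_eq_zero p ι, zero_mul]
  obtain ⟨c', hc'⟩ := (flat_ringHom_iff p ι).1 hl.flat _ hpc
  have hmem : θ c ∈ Ideal.span S := by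
    rw [← Ideal.Quotient.eq_zero_iff_mem, ← hγ, hc', IsLift.map_p_mul hl]
  refine theta_ne_mem_add (k := k) c hc (0 : k) ?_
  rw [map_zero, sub_zero]
  exact hmem

theorem not_isFLiftable_quadric [PerfectRing k p] :
    ¬ FrobAlg.IsFLiftable p k
      (MvPolynomial (Fin (m + 3) × Fin 2) k ⧸ Ideal.span
        {(∑ i : Fin (m + 3), MvPolynomial.X (i, (0 : Fin 2)) * MvPolynomial.X (i, (1 : Fin 2)) : MvPolynomial (Fin (m + 3) × Fin 2) k)}) := by
  rintro ⟨B, _, ι, π, Φ, hΦ⟩
  have hl := hΦ.toIsLift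
  let S : Set (MvPolynomial (Fin (m + 3) × Fin 2) k) := {∑ i : Fin (m + 3), MvPolynomial.X (i, (0 : Fin 2)) * MvPolynomial.X (i, (1 : Fin 2))}
  choose b hb using fun v : Fin (m + 3) × Fin 2 => hl.surj (Ideal.Quotient.mk (Ideal.span S) (MvPolynomial.X v))
  obtain ⟨c, hc⟩ := exists_int_poly (p := p) (m + 3)
  let γ : MvPolynomial (Fin (m + 3)) ℤ →+* B := MvPolynomial.eval₂Hom (Int.castRingHom B) fun i => b (i, 0) * b (i, 1)
  have hγ : ∀ a, π (γ a) = Ideal.Quotient.mk (Ideal.span S) (thetaHom k m a) := fun a =>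
    DFunLike.congr_fun (f := π.comp γ) (g := (Ideal.Quotient.mk (Ideal.span S)).comp (thetaHom k m))
      (MvPolynomial.ringHom_ext (fun z => by simp) fun i => by simp [γ, thetaHom, hb]) a
  choose h hh using fun v => IsLift.exists_eq_p_mul hl (b := Φ (b v) - b v ^ p) (by rw [map_sub, hΦ.red, map_pow, sub_self])
  obtain ⟨hq, hhq⟩ := IsLift.exists_eq_p_mul hl (b := ∑ i, b (i, 0) * b (i, 1)) (by
    rw [map_sum]
    simp only [map_mul, hb]
    simp only [← map_mul, ← map_sum]
    rw [Ideal.Quotient.eq_zero_iff_mem]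
    exact Ideal.subset_span rfl)
  have hsq := cast_sq_eq_zero p ι
  have hpc : (p : B) * γ c = -∑ i, b (i, 0) ^ p * b (i, 1) ^ p := by
    have h1 := congrArg γ hc
    simp only [map_sub, map_pow, map_sum, map_mul, γ, MvPolynomial.eval₂Hom_X', MvPolynomial.eval₂Hom_C, eq_intCast, Int.cast_natCast, map_natCast] at h1
    change (p : B) * γ c = _
    obtain ⟨q, hq'⟩ : ∃ q, p = q + 2 := ⟨p - 2, by have := hp.out.two_le; omega⟩
    rw [← h1, hhq, mul_pow, show (p : B) ^ p = (p : B) * p * (p : B) ^ q by rw [← pow_two, ← pow_add, add_comm 2 q, ← hq'],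
      hsq, zero_mul, zero_mul, zero_sub]
    simp only [mul_pow]
  have hrel : (p : B) * (-γ c + ∑ i, (b (i, 0) ^ p * h (i, 1) + h (i, 0) * b (i, 1) ^ p)) = (p : B) * hq ^ p := by
    have h1 := congrArg Φ hhq
    rw [map_sum, map_mul, map_natCast] at h1
    obtain ⟨d, hd⟩ := IsLift.exists_eq_p_mul hl (b := Φ hq - hq ^ p) (by rw [map_sub, hΦ.red, map_pow, sub_self])
    rw [eq_add_of_sub_eq hd, mul_add, ← mul_assoc, hsq, zero_mul, zero_add] at h1
    rw [← h1, mul_add, mul_neg, hpc, neg_neg, Finset.mul_sum, ← Finset.sum_add_distrib]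
    refine Finset.sum_congr rfl fun i _ => ?_
    rw [map_mul, eq_add_of_sub_eq (hh (i, 0)), eq_add_of_sub_eq (hh (i, 1))]
    linear_combination (-h (i, 0) * h (i, 1)) * hsq
  have h2 := IsLift.eq_of_p_mul hl hrel
  simp only [map_add, map_neg, map_sum, map_mul, map_pow, hγ, hb] at h2
  obtain ⟨H, hH⟩ := Ideal.Quotient.mk_surjective (π hq)
  choose g hg using fun v => Ideal.Quotient.mk_surjective (π (h v))
  have h2' : Ideal.Quotient.mk (Ideal.span S)
      (-thetaHom k m c + ∑ i, (MvPolynomial.X (i, (0 : Fin 2)) ^ p * g (i, 1) + g (i, 0) * MvPolynomial.X (i, (1 : Fin 2)) ^ p)) =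
      Ideal.Quotient.mk (Ideal.span S) (H ^ p) := by
    have hg' : ∀ v, Ideal.Quotient.mk (Ideal.span S) (g v) = π (h v) := hg
    have hH' : Ideal.Quotient.mk (Ideal.span S) H = π hq := hH
    simp only [map_add, map_neg, map_sum, map_mul, map_pow, hg', hH']
    exact h2
  rw [Ideal.Quotient.eq] at h2'
  refine theta_ne_mem_add c hc (-(MvPolynomial.constantCoeff H) ^ p) ?_
  have hS : Ideal.span S ≤ Ideal.span (rels p k m) := Ideal.span_mono (Set.singleton_subset_iff.2 (Set.mem_insert _ _))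
  have hX : ∀ v, (MvPolynomial.X v : MvPolynomial (Fin (m + 3) × Fin 2) k) ^ p ∈ Ideal.span (rels p k m) := fun v =>
    Ideal.subset_span (Set.mem_insert_of_mem _ ⟨v, rfl⟩)
  have hfrob : ∀ F : MvPolynomial (Fin (m + 3) × Fin 2) k, F ^ p - MvPolynomial.C (MvPolynomial.constantCoeff F ^ p) ∈ Ideal.span (rels p k m) := by
    intro F
    induction F using MvPolynomial.induction_on with
    | C a => simp
    | add f g hf hg =>
      have := add_mem hf hg
      rw [map_add MvPolynomial.constantCoeff, add_pow_char, add_pow_char, map_add]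
      convert this using 1
      ring
    | mul_X q v _ =>
      simp only [map_mul, MvPolynomial.constantCoeff_X, mul_zero, zero_pow hp.out.ne_zero, map_zero, sub_zero, mul_pow]
      exact Ideal.mul_mem_left _ _ (hX v)
  have h3 : (∑ i : Fin (m + 3), (MvPolynomial.X (i, (0 : Fin 2)) ^ p * g (i, 1) + g (i, 0) * MvPolynomial.X (i, (1 : Fin 2)) ^ p)) ∈ Ideal.span (rels p k m) :=
    Submodule.sum_mem _ fun i _ => add_mem (Ideal.mul_mem_right _ _ (hX _)) (Ideal.mul_mem_left _ _ (hX _))
  have h4 := sub_mem (sub_mem h3 (hS h2')) (hfrob H)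
  convert h4 using 1
  rw [map_neg, map_pow]
  ring

end Groth.Agent.FrobW2
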