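import Groth.Agent.FrobW2.FfDescent
import Groth.Agent.FrobW2.EtaleFLift
import Mathlib.RingTheory.Smooth.StandardSmoothOfFree
import Mathlib.RingTheory.RingHom.StandardSmooth
import Mathlib.Algebra.MvPolynomial.PDeriv
import Mathlib.RingTheory.Flat.FaithfullyFlat.Algebra
import Mathlib.RingTheory.Flat.Basic
import Mathlib.RingTheory.Smooth.Basic
import Mathlib.RingTheory.Spectrum.Prime.RingHom
import Mathlib.Tactic.LinearCombination

/-! # Smooth algebras lift with their Frobenius over `W₂(k)` -/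

namespace Groth.Agent.FrobW2

open FrobAlg TensorProduct

universe u v

/-- Taylor expansion to first order. -/
theorem eval_add_sq_zero {R S : Type*} [CommRing R] [CommRing S] {σ : Type*} [Fintype σ]
    (φ₁ φ₂ : MvPolynomial σ R →+* S) (hC : ∀ a, φ₂ (MvPolynomial.C a) = φ₁ (MvPolynomial.C a))
    (d : σ → S) (hd : ∀ i, φ₂ (MvPolynomial.X i) = φ₁ (MvPolynomial.X i) + d i) (hdd : ∀ i j, d i * d j = 0)
    (F : MvPolynomial σ R) : φ₂ F = φ₁ F + ∑ i, φ₁ (MvPolynomial.pderiv i F) * d i := by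
  classical
  induction F using MvPolynomial.induction_on with
  | C a => simp [hC]
  | add f g hf hg => simp only [map_add, hf, hg, add_mul, Finset.sum_add_distrib]; abel
  | mul_X q j hq =>
    have h0 : (∑ i, φ₁ (MvPolynomial.pderiv i q) * d i) * d j = 0 := by
      rw [Finset.sum_mul]
      exact Finset.sum_eq_zero fun i _ => by rw [mul_assoc, hdd, mul_zero]
    have h1 : ∀ i, φ₁ (MvPolynomial.pderiv i (q * MvPolynomial.X j)) * d i =
        φ₁ (MvPolynomial.pderiv i q) * d i * φ₁ (MvPolynomial.X j) + (if i = j then φ₁ q * d i else 0) := by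
      intro i
      rw [MvPolynomial.pderiv_mul, map_add, map_mul, map_mul, MvPolynomial.pderiv_X]
      by_cases hij : i = j
      · subst hij; simp only [Pi.single_eq_same, map_one, if_true]; ring
      · rw [Pi.single_eq_of_ne' hij, map_zero, if_neg hij]; ring
    rw [map_mul, map_mul, hq, hd, Finset.sum_congr rfl fun i _ => h1 i, Finset.sum_add_distrib,
      Finset.sum_ite_eq' Finset.univ j, if_pos (Finset.mem_univ j), ← Finset.sum_mul]
    linear_combination h0

variable {p : ℕ} [hp : Fact p.Prime] {k : Type u} [Field k] [CharP k p] [PerfectRing k p]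

theorem isW2Liftable_mvPolynomial (n : ℕ) : IsW2Liftable p k (MvPolynomial (Fin n) k) := by
  refine ⟨MvPolynomial (Fin n) (W2 p k), inferInstance, MvPolynomial.C, MvPolynomial.map (res p k),
    isLift_mk (MvPolynomial.map_surjective _ res_surjective) (fun x hx => ?_) (fun x hx => ?_) ?_⟩
  · have h1 : x ∈ RingHom.ker (MvPolynomial.map (σ := Fin n) (res p k)) := hx
    rw [MvPolynomial.ker_map, ker_res_perfect p, Ideal.map_span, Set.image_singleton, map_natCast,
      Ideal.mem_span_singleton] at h1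
    exact h1
  · refine MvPolynomial.ext _ _ fun d => ?_
    rw [MvPolynomial.coeff_map, MvPolynomial.coeff_zero]
    refine res_eq_zero_of_p_mul p ?_
    have h1 := congrArg (MvPolynomial.coeff d) hx
    rwa [← map_natCast (MvPolynomial.C (R := W2 p k) (σ := Fin n)), MvPolynomial.coeff_C_mul, MvPolynomial.coeff_zero] at h1
  · exact RingHom.ext fun a => MvPolynomial.map_C _ a

theorem isW2Liftable_of_isStandardSmooth {A : Type u} [CommRing A] [Algebra k A] [Algebra.IsStandardSmooth k A] :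
    IsW2Liftable p k A := by
  obtain ⟨n, g, hg, het⟩ := RingHom.IsStandardSmooth.exists_etale_mvPolynomial
    (RingHom.isStandardSmooth_algebraMap.2 (inferInstance : Algebra.IsStandardSmooth k A))
  letI : Algebra (MvPolynomial (Fin n) k) A := g.toAlgebra
  haveI : Algebra.Etale (MvPolynomial (Fin n) k) A := het
  haveI : IsScalarTower k (MvPolynomial (Fin n) k) A := IsScalarTower.of_algebraMap_eq' hg.symm
  obtain ⟨B₀, _, ι₀, π₀, h⟩ := isW2Liftable_mvPolynomial (p := p) (k := k) n
  obtain ⟨B, _, _, π, -, -, hl⟩ := exists_lift_of_etale (C := A) h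
  exact ⟨B, inferInstance, _, π, hl⟩

theorem isW2Liftable_pi {ι : Type v} (A : ι → Type v) [∀ i, CommRing (A i)] [∀ i, Algebra k (A i)]
    (h : ∀ i, IsW2Liftable p k (A i)) : IsW2Liftable p k (∀ i, A i) := by
  choose B hB ιB πB hl using h
  refine ⟨∀ i, B i, inferInstance, RingHom.pi ιB, RingHom.pi fun i => (πB i).comp (Pi.evalRingHom B i),
    isLift_mk (fun a => ?_) (fun b hb => ?_) (fun b hb => ?_) ?_⟩
  · choose b hb using fun i => (hl i).surj (a i)
    exact ⟨b, funext hb⟩
  · choose c hc using fun i => IsLift.exists_eq_p_mul (hl i) (b := b i) (congrFun hb i)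
    exact ⟨c, funext fun i => by rw [Pi.mul_apply, Pi.natCast_apply]; exact hc i⟩
  · funext i
    have h1 := congrFun hb i
    rw [Pi.mul_apply, Pi.natCast_apply] at h1
    obtain ⟨c, hc⟩ := (flat_ringHom_iff p (ιB i)).1 (hl i).flat (b i) h1
    change πB i (b i) = 0
    rw [hc, IsLift.map_p_mul (hl i)]
  · exact RingHom.ext fun a => funext fun i => RingHom.congr_fun (hl i).comm a

theorem isW2Liftable_of_smooth {A : Type u} [CommRing A] [Algebra k A] [Algebra.Smooth k A] : IsW2Liftable p k A := by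
  obtain ⟨s, hs, hst⟩ := Algebra.Smooth.exists_span_eq_top_isStandardSmooth k A
  obtain ⟨s', hs', hs''⟩ := (Ideal.span_eq_top_iff_finite s).1 hs
  let B := ∀ x : s', Localization.Away (x : A)
  haveI : Module.Flat A B := inferInstance
  haveI : Module.FaithfullyFlat A B := Module.FaithfullyFlat.of_comap_surjective fun q => by
    obtain ⟨x, hx, hxq⟩ : ∃ x ∈ s', x ∉ q.asIdeal := by
      by_contra hcon
      push Not at hcon
      exact q.2.ne_top (top_le_iff.1 (hs''.symm.le.trans (Ideal.span_le.2 fun y hy => hcon y hy)))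
    obtain ⟨Q, hQ⟩ : q ∈ Set.range (PrimeSpectrum.comap (algebraMap A (Localization.Away x))) := by
      rw [PrimeSpectrum.localization_away_comap_range (Localization.Away x) x]
      exact hxq
    refine ⟨PrimeSpectrum.comap (Pi.evalRingHom (fun x : s' => Localization.Away (x : A)) ⟨x, hx⟩) Q, ?_⟩
    rw [← hQ]
    rfl
  haveI : Algebra.EssFiniteType k A := inferInstance
  refine isW2Liftable_descent (B := B) (isW2Liftable_pi (fun x : s' => Localization.Away (x : A)) fun x => ?_)
  haveI := hst x (hs' x.2)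
  exact isW2Liftable_of_isStandardSmooth

theorem isFLiftable_of_smooth {A : Type u} [CommRing A] [Algebra k A] [Algebra.Smooth k A] : IsFLiftable p k A := by
  classical
  obtain ⟨B₀, _, ι₀, π₀, hl⟩ := isW2Liftable_of_smooth (p := p) (k := k) (A := A)
  have hpA : (p : A) = 0 := cast_eq_zero_of_algebra p k
  obtain ⟨n, φ, hφ⟩ := Algebra.FiniteType.iff_quotient_mvPolynomial''.1 (inferInstance : Algebra.FiniteType k A)
  let r : MvPolynomial (Fin n) (W2 p k) →+* MvPolynomial (Fin n) k := MvPolynomial.map (res p k)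
  have hr : Function.Surjective r := MvPolynomial.map_surjective _ res_surjective
  choose b hb using fun i => hl.surj (φ (MvPolynomial.X i))
  let β : MvPolynomial (Fin n) (W2 p k) →+* B₀ := MvPolynomial.eval₂Hom ι₀ b
  have hπβ : ∀ F, π₀ (β F) = φ (r F) := by
    intro F
    refine DFunLike.congr_fun (f := π₀.comp β) (g := (φ : MvPolynomial (Fin n) k →+* A).comp r) (MvPolynomial.ringHom_ext (fun a => ?_) fun i => ?_) F
    · have h1 := RingHom.congr_fun hl.comm a
      simp only [RingHom.comp_apply] at h1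
      simp only [RingHom.comp_apply, β, r, MvPolynomial.eval₂Hom_C, MvPolynomial.map_C, h1]
      exact (φ.commutes _).symm
    · simp only [RingHom.comp_apply, β, r, MvPolynomial.eval₂Hom_X', MvPolynomial.map_X, hb]
      rfl
  have hβ : Function.Surjective β := by
    have h1 : ∀ c, ∃ t c', c = β t + (p : B₀) * c' := fun c => by
      obtain ⟨f, hf⟩ := hφ (π₀ c)
      obtain ⟨t, rfl⟩ := hr f
      obtain ⟨c', hc'⟩ := IsLift.exists_eq_p_mul hl (b := c - β t) (by rw [map_sub, hπβ, hf, sub_self])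
      exact ⟨t, c', by rw [← hc', add_sub_cancel]⟩
    intro c
    obtain ⟨t, c', rfl⟩ := h1 c
    obtain ⟨t', c'', rfl⟩ := h1 c'
    refine ⟨t + (p : MvPolynomial (Fin n) (W2 p k)) * t', ?_⟩
    rw [map_add, map_mul, map_natCast, mul_add (p : B₀), ← mul_assoc (p : B₀) (p : B₀), cast_sq_eq_zero p ι₀, zero_mul, add_zero]
  let J : Ideal (MvPolynomial (Fin n) (W2 p k)) := RingHom.ker β
  let G : (Fin n → W2 p A) → (MvPolynomial (Fin n) (W2 p k) →+* W2 p A) := fun y =>
    MvPolynomial.eval₂Hom (WittGrp.truncMap p 2 (algebraMap k A)) y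
  let y₀ : Fin n → W2 p A := fun i => TruncatedWittVector.mk p ![φ (MvPolynomial.X i), 0]
  have hres : ∀ y : Fin n → W2 p A, (∀ i, res p A (y i) = φ (MvPolynomial.X i)) → ∀ F, res p A (G y F) = φ (r F) := by
    intro y hy F
    refine DFunLike.congr_fun (f := (res p A).comp (G y)) (g := (φ : MvPolynomial (Fin n) k →+* A).comp r) (MvPolynomial.ringHom_ext (fun a => ?_) fun i => ?_) F
    · simp only [RingHom.comp_apply, G, r, MvPolynomial.eval₂Hom_C, MvPolynomial.map_C, res_apply, WittGrp.coeff_truncMap]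
      exact (φ.commutes _).symm
    · simp only [RingHom.comp_apply, G, r, MvPolynomial.eval₂Hom_X', MvPolynomial.map_X, hy]
      rfl
  have hy₀ : ∀ i, res p A (y₀ i) = φ (MvPolynomial.X i) := fun i => by simp [y₀]
  have hJr : ∀ F ∈ J, φ (r F) = 0 := fun F hF => by rw [← hπβ, RingHom.mem_ker.1 hF, map_zero]
  have hpres : res p A (p : W2 p A) = 0 := by rw [map_natCast, hpA]
  have hGpJ : ∀ t, (p : MvPolynomial (Fin n) (W2 p k)) * t ∈ J → G y₀ ((p : MvPolynomial (Fin n) (W2 p k)) * t) = 0 := by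
    intro t ht
    have h1 := RingHom.mem_ker.1 ht
    rw [map_mul, map_natCast] at h1
    obtain ⟨c, hc⟩ := (flat_ringHom_iff p ι₀).1 hl.flat (β t) h1
    rw [map_mul, map_natCast]
    exact res_mul_res hpA hpres (by rw [hres y₀ hy₀, ← hπβ, hc, IsLift.map_p_mul hl])
  -- the kernel of `φ`
  let I : Ideal (MvPolynomial (Fin n) k) := RingHom.ker φ
  have hJI : J.map r = I := by
    refine le_antisymm (Ideal.map_le_iff_le_comap.2 fun F hF => RingHom.mem_ker.2 (hJr F hF)) fun f hf => ?_
    obtain ⟨F, rfl⟩ := hr f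
    obtain ⟨c, hc⟩ := IsLift.exists_eq_p_mul hl (b := β F) (by rw [hπβ]; exact hf)
    obtain ⟨t, rfl⟩ := hβ c
    have h1 : F - (p : MvPolynomial (Fin n) (W2 p k)) * t ∈ J := by
      rw [RingHom.mem_ker, map_sub, hc, map_mul, map_natCast, sub_self]
    have h2 := Ideal.mem_map_of_mem r h1
    rwa [map_sub, map_mul r, map_natCast, CharP.cast_eq_zero, zero_mul, sub_zero] at h2
  -- a section modulo the square
  let q : (MvPolynomial (Fin n) k ⧸ I ^ 2) →ₐ[k] A := Ideal.Quotient.liftₐ _ φ fun x hx =>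
    RingHom.mem_ker.1 (Ideal.pow_le_self two_ne_zero hx)
  have hq : Function.Surjective q := fun a => by
    obtain ⟨f, rfl⟩ := hφ a
    exact ⟨Ideal.Quotient.mk _ f, rfl⟩
  have hqn : IsNilpotent (RingHom.ker (q : (MvPolynomial (Fin n) k ⧸ I ^ 2) →+* A)) := by
    refine ⟨2, le_bot_iff.1 ?_⟩
    rw [sq (RingHom.ker (q : (MvPolynomial (Fin n) k ⧸ I ^ 2) →+* A))]
    refine Ideal.mul_le.2 ?_
    intro x hx y hy
    obtain ⟨f, rfl⟩ := Ideal.Quotient.mk_surjective x
    obtain ⟨g, rfl⟩ := Ideal.Quotient.mk_surjective y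
    rw [Submodule.mem_bot, ← map_mul, Ideal.Quotient.eq_zero_iff_mem, pow_two]
    exact Ideal.mul_mem_mul hx hy
  let s := Algebra.FormallySmooth.liftOfSurjective (AlgHom.id k A) q hq hqn
  choose c hc using fun i => Ideal.Quotient.mk_surjective
    (Ideal.Quotient.mk (I ^ 2) (MvPolynomial.X i) - s (φ (MvPolynomial.X i)))
  have hcI : ∀ i, c i ∈ I := fun i => by
    have h1 := congrArg q (hc i)
    rw [map_sub, Algebra.FormallySmooth.liftOfSurjective_apply (AlgHom.id k A) q hq hqn] at h1
    change φ (c i) = φ (MvPolynomial.X i) - φ (MvPolynomial.X i) at h1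
    rw [sub_self] at h1
    exact h1
  have hfI : ∀ f ∈ I, f - ∑ i, MvPolynomial.pderiv i f * c i ∈ I ^ 2 := by
    intro f hf
    have h1 := eval_add_sq_zero (Ideal.Quotient.mk (I ^ 2)) ((s.comp φ : MvPolynomial (Fin n) k →ₐ[k] _) : MvPolynomial (Fin n) k →+* _)
      (fun a => (s.comp φ).commutes a) (fun i => -Ideal.Quotient.mk (I ^ 2) (c i))
      (fun i => by rw [hc, neg_sub, add_sub_cancel]; rfl)
      (fun i j => by rw [neg_mul_neg, ← map_mul, Ideal.Quotient.eq_zero_iff_mem, pow_two]; exact Ideal.mul_mem_mul (hcI i) (hcI j)) f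
    change s (φ f) = _ at h1
    rw [show φ f = 0 from hf, map_zero] at h1
    rw [← Ideal.Quotient.eq_zero_iff_mem, map_sub, map_sum, h1, sub_eq_add_neg, ← Finset.sum_neg_distrib]
    exact congrArg _ (Finset.sum_congr rfl fun i _ => by rw [map_mul, mul_neg])
  choose cJ hcJ hcJr using fun i => (Ideal.mem_map_iff_of_surjective r hr).1 (hJI.symm ▸ hcI i : c i ∈ J.map r)
  let D : Fin n → W2 p A := fun i => G y₀ (cJ i)
  have hker0 : ∀ F ∈ J, res p A (G y₀ F) = 0 := fun F hF => by rw [hres y₀ hy₀, hJr F hF]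
  have hlin : ∀ F ∈ J, G y₀ F = ∑ i, G y₀ (MvPolynomial.pderiv i F) * D i := by
    intro F hF
    have h1 := hfI (r F) (RingHom.mem_ker.2 (hJr F hF))
    rw [← hJI, ← Ideal.map_pow] at h1
    obtain ⟨Q, hQ, hQr⟩ := (Ideal.mem_map_iff_of_surjective r hr).1 h1
    have h2 : r (F - (∑ i, MvPolynomial.pderiv i F * cJ i) - Q) = 0 := by
      rw [map_sub, map_sub, map_sum, hQr]
      simp only [map_mul, hcJr, r, ← MvPolynomial.pderiv_map, sub_self]
    have h3 : F - (∑ i, MvPolynomial.pderiv i F * cJ i) - Q ∈ RingHom.ker r := h2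
    rw [MvPolynomial.ker_map, ker_res_perfect p, Ideal.map_span, Set.image_singleton, map_natCast,
      Ideal.mem_span_singleton] at h3
    obtain ⟨t, ht⟩ := h3
    have h4 : G y₀ Q = 0 := by
      have h5 : J ^ 2 ≤ RingHom.ker (G y₀) := by
        rw [pow_two, Ideal.mul_le]
        intro a ha b hb'
        rw [RingHom.mem_ker, map_mul]
        exact res_mul_res hpA (hker0 a ha) (hker0 b hb')
      exact h5 hQ
    have h6 := congrArg (G y₀) ht
    rw [hGpJ t (ht ▸ sub_mem (sub_mem hF (Submodule.sum_mem _ fun i _ => J.mul_mem_left _ (hcJ i))) (Ideal.pow_le_self two_ne_zero hQ)),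
      map_sub, map_sub, h4, sub_zero, sub_eq_zero, map_sum] at h6
    exact h6.trans (Finset.sum_congr rfl fun i _ => map_mul _ _ _)
  let y₁ : Fin n → W2 p A := fun i => y₀ i + -D i
  have hDres : ∀ i, res p A (D i) = 0 := fun i => hker0 _ (hcJ i)
  have hy₁ : ∀ i, res p A (y₁ i) = φ (MvPolynomial.X i) := fun i => by
    rw [map_add, map_neg, hDres, neg_zero, add_zero, hy₀]
  have hkill : ∀ F ∈ J, G y₁ F = 0 := by
    intro F hF
    rw [eval_add_sq_zero (G y₀) (G y₁) (fun a => by simp [G]) (fun i => -D i) (fun i => by simp [G, y₁])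
      (fun i j => by rw [neg_mul_neg]; exact res_mul_res hpA (hDres i) (hDres j)) F, hlin F hF, ← Finset.sum_add_distrib]
    exact Finset.sum_eq_zero fun i _ => by rw [mul_neg, add_neg_cancel]
  let θ : B₀ →+* W2 p A := RingHom.liftOfSurjective β hβ ⟨G y₁, hkill⟩
  have hθ : ∀ F, θ (β F) = G y₁ F := fun F => RingHom.liftOfRightInverse_comp_apply _ _ _ _ F
  obtain ⟨Φ, hΦ⟩ := (exists_frobLift_iff hl).2 ⟨θ, RingHom.ext fun c => by
      obtain ⟨F, rfl⟩ := hβ c
      rw [RingHom.comp_apply, hθ, hres y₁ hy₁, hπβ],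
    RingHom.ext fun a => by
      rw [RingHom.comp_apply, show ι₀ a = β (MvPolynomial.C a) by simp [β], hθ]
      simp [G]⟩
  exact ⟨B₀, inferInstance, ι₀, π₀, Φ, hΦ⟩

end Groth.Agent.FrobW2
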